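import Mathlib.AlgebraicGeometry.Morphisms.Immersion
import Mathlib.AlgebraicGeometry.Morphisms.ClosedImmersion
import Mathlib.AlgebraicGeometry.IdealSheaf.Subscheme
import Mathlib.AlgebraicGeometry.Properties

/-! Reduced subschemes. -/

universe u

open AlgebraicGeometry CategoryTheory Limits TopologicalSpace

namespace Groth.PropsBasic2

variable {X Y Z : Scheme.{u}}

lemma exists_lift_of_isReduced [IsReduced X] (f : X ⟶ Y) (j : Z ⟶ Y) [IsClosedImmersion j]
    (h : Set.range f ⊆ Set.range j) : ∃ g : X ⟶ Z, g ≫ j = f := by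
  have hk : j.ker ≤ f.ker := by
    rw [show f.ker = Scheme.IdealSheafData.ofIdeals _ from rfl, Scheme.IdealSheafData.le_ofIdeals_iff]
    intro U a ha
    replace ha : (j.app U).hom a = 0 := Scheme.Hom.ideal_ker_le j U ha
    rw [RingHom.mem_ker]
    refine (basicOpen_eq_bot_iff _).mp (eq_bot_iff.mpr fun x hx => ?_)
    rw [← Scheme.preimage_basicOpen] at hx
    obtain ⟨z, hz⟩ := h ⟨x, rfl⟩
    have : z ∈ j ⁻¹ᵁ Y.basicOpen a := by
      show j z ∈ Y.basicOpen a
      rw [hz]; exact hx
    rw [Scheme.preimage_basicOpen, ha, Scheme.basicOpen_zero] at this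
    exact this.elim
  exact ⟨_, IsClosedImmersion.lift_fac j f hk⟩

lemma exists_iso_of_range_eq [IsReduced X] [IsReduced Z] (i : X ⟶ Y) (i' : Z ⟶ Y)
    [IsClosedImmersion i] [IsClosedImmersion i'] (h : Set.range i = Set.range i') :
    ∃ e : X ≅ Z, e.hom ≫ i' = i := by
  obtain ⟨a, ha⟩ := exists_lift_of_isReduced i i' h.le
  obtain ⟨b, hb⟩ := exists_lift_of_isReduced i' i h.ge
  refine ⟨⟨a, b, ?_, ?_⟩, ha⟩
  · rw [← cancel_mono i, Category.assoc, hb, ha, Category.id_comp]
  · rw [← cancel_mono i', Category.assoc, ha, hb, Category.id_comp]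

lemma isReduced_subscheme_iff (I : X.IdealSheafData) :
    IsReduced I.subscheme ↔ ∀ U, (I.ideal U).IsRadical := by
  constructor
  · intro h U a ha
    rw [← I.ker_subschemeι_app U, RingHom.mem_ker]
    obtain ⟨n, hn⟩ := ha
    refine IsNilpotent.eq_zero ⟨n, ?_⟩
    rw [← map_pow, ← RingHom.mem_ker, I.ker_subschemeι_app U]
    exact hn
  · intro h
    have : ∀ U, IsReduced (I.subschemeCover.openCover.X U) := fun U => by
      have : _root_.IsReduced (Γ(X, U.1) ⧸ I.ideal U) :=
        (Ideal.isRadical_iff_quotient_reduced _).mp (h U)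
      exact inferInstanceAs (IsReduced (Spec (.of (Γ(X, U.1) ⧸ I.ideal U))))
    exact IsReduced.of_openCover _ I.subschemeCover.openCover

lemma isReduced_vanishingIdeal_subscheme (S : Closeds X) :
    IsReduced (Scheme.IdealSheafData.vanishingIdeal S).subscheme := by
  rw [isReduced_subscheme_iff]
  intro U
  rw [Scheme.IdealSheafData.vanishingIdeal_ideal]
  exact PrimeSpectrum.isRadical_vanishingIdeal _

lemma range_vanishingIdeal_subschemeι (S : Closeds X) :
    Set.range (Scheme.IdealSheafData.vanishingIdeal S).subschemeι = S := by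
  rw [Scheme.IdealSheafData.range_subschemeι]
  simp

lemma isReduced_subscheme_iff_eq_nilradical (I : X.IdealSheafData) (hI : I.support = ⊤) :
    IsReduced I.subscheme ↔ I = X.nilradical := by
  have hle : I ≤ X.nilradical := by
    rw [← Scheme.IdealSheafData.vanishingIdeal_top,
      ← Scheme.IdealSheafData.le_support_iff_le_vanishingIdeal, hI]
  rw [isReduced_subscheme_iff]
  constructor
  · intro h
    refine le_antisymm hle fun U => ?_
    have h1 : X.nilradical.ideal U = (⊥ : Ideal Γ(X, U.1)).radical := rfl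
    rw [h1]
    exact (Ideal.radical_mono bot_le).trans (h U).radical.le
  · rintro rfl U
    exact Ideal.radical_isRadical _

lemma isReduced_nilradical_subscheme (X : Scheme.{u}) : IsReduced X.nilradical.subscheme :=
  (isReduced_subscheme_iff_eq_nilradical _ X.support_nilradical).mpr rfl

lemma isOpenImmersion_red (f : X ⟶ Y) [IsOpenImmersion f]
    (g : X.nilradical.subscheme ⟶ Y.nilradical.subscheme)
    (hg : g ≫ Y.nilradical.subschemeι = X.nilradical.subschemeι ≫ f) : IsOpenImmersion g := by
  have := isReduced_nilradical_subscheme X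
  have := isReduced_nilradical_subscheme Y
  let s := pullback.snd f Y.nilradical.subschemeι
  have : IsReduced (pullback f Y.nilradical.subschemeι) := isReduced_of_isOpenImmersion s
  have hsurj : Set.range (pullback.fst f Y.nilradical.subschemeι) = Set.univ := by
    rw [Scheme.Pullback.range_fst, Scheme.IdealSheafData.range_subschemeι, Scheme.support_nilradical]
    simp
  obtain ⟨e, he⟩ := exists_iso_of_range_eq X.nilradical.subschemeι
    (pullback.fst f Y.nilradical.subschemeι) (by
      rw [hsurj, Scheme.IdealSheafData.range_subschemeι, Scheme.support_nilradical]; rfl)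
  have : g = e.hom ≫ s := by
    rw [← cancel_mono Y.nilradical.subschemeι, hg, Category.assoc, ← pullback.condition,
      reassoc_of% he]
  rw [this]; infer_instance

/-- Factor an immersion of a reduced scheme through the closure of its image. -/
lemma exists_factor_closure (h : Z ⟶ X) [IsImmersion h] [IsReduced Z] :
    ∃ (W : Scheme.{u}) (j : Z ⟶ W) (i : W ⟶ X), IsOpenImmersion j ∧ IsClosedImmersion i ∧
      IsReduced W ∧ Set.range i = closure (Set.range h) ∧ j ≫ i = h := by
  let S : Closeds X := ⟨closure (Set.range h), isClosed_closure⟩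
  let i := (Scheme.IdealSheafData.vanishingIdeal S).subschemeι
  have hi : Set.range i = closure (Set.range h) := range_vanishingIdeal_subschemeι S
  have := isReduced_vanishingIdeal_subscheme S
  obtain ⟨j, hj⟩ := exists_lift_of_isReduced h i (subset_closure.trans hi.ge)
  refine ⟨_, j, i, ?_, inferInstance, inferInstance, hi, hj⟩
  have : IsImmersion (j ≫ i) := hj ▸ inferInstance
  have : IsImmersion j := IsImmersion.of_comp j i
  have hr : Set.range j = i ⁻¹' Set.range h := by
    rw [← hj, Scheme.Hom.comp_base, TopCat.coe_comp, Set.range_comp,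
      i.isEmbedding.injective.preimage_image]
  obtain ⟨O, hO, hOe⟩ : ∃ O : Set X, IsOpen O ∧ Set.range h = O ∩ closure (Set.range h) :=
    ⟨coborder (Set.range h), h.isLocallyClosed_range.isOpen_coborder, (coborder_inter_closure).symm⟩
  let W₀ : (Scheme.IdealSheafData.vanishingIdeal S).subscheme.Opens :=
    ⟨i ⁻¹' O, hO.preimage i.continuous⟩
  have hr' : Set.range j = (W₀ : Set _) := by
    rw [hr, hOe, Set.preimage_inter, ← hi, Set.preimage_range, Set.inter_univ]
    rfl
  let j₀ := IsOpenImmersion.lift W₀.ι j (by rw [Scheme.Opens.range_ι, hr'])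
  have hj₀ : j₀ ≫ W₀.ι = j := IsOpenImmersion.lift_fac _ _ _
  have : Surjective j₀ := ⟨fun w => by
    obtain ⟨z, hz⟩ := hr'.ge w.2
    exact ⟨z, Subtype.ext ((congrArg (fun q => q.base z) hj₀).trans hz)⟩⟩
  have : IsPreimmersion (j₀ ≫ W₀.ι) := hj₀ ▸ inferInstance
  have := IsPreimmersion.of_comp j₀ W₀.ι
  have : IsClosedImmersion j₀ := IsClosedImmersion.of_isPreimmersion j₀ (by
    rw [j₀.surjective.range_eq]; exact isClosed_univ)
  have := isIso_of_isClosedImmersion_of_surjective j₀
  rw [← hj₀]; infer_instance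

lemma existsUnique_reduced (X : Scheme.{u}) (S : Set X) (hS : IsLocallyClosed S) :
    (∃ (Y : Scheme.{u}) (i : Y ⟶ X), IsImmersion i ∧ IsReduced Y ∧ Set.range i = S) ∧
      ∀ (Y Y' : Scheme.{u}) (i : Y ⟶ X) (i' : Y' ⟶ X), IsImmersion i → IsReduced Y → IsImmersion i' →
        IsReduced Y' → Set.range i = S → Set.range i' = S →
          ∃ e : Y ≅ Y', e.hom ≫ i' = i := by
  constructor
  · let U : X.Opens := ⟨coborder S, hS.isOpen_coborder⟩
    let T : Closeds U := ⟨Subtype.val ⁻¹' S, isClosed_preimage_val_coborder⟩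
    let i := (Scheme.IdealSheafData.vanishingIdeal T).subschemeι
    refine ⟨_, i ≫ U.ι, inferInstance, isReduced_vanishingIdeal_subscheme T, ?_⟩
    rw [Scheme.Hom.comp_base, TopCat.coe_comp, Set.range_comp, range_vanishingIdeal_subschemeι]
    exact (Set.image_preimage_eq_of_subset (by rw [Scheme.Opens.range_ι]; exact subset_coborder))
  · intro Y Y' i i' hi hY hi' hY' h h'
    have hs : Set.range i' ⊆ Set.range i.coborderRange.ι := by
      rw [Scheme.Opens.range_ι, h']
      exact h ▸ subset_coborder
    let k := IsOpenImmersion.lift i.coborderRange.ι i' hs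
    have hk : k ≫ i.coborderRange.ι = i' := IsOpenImmersion.lift_fac _ _ _
    have hl : i.liftCoborder ≫ i.coborderRange.ι = i := i.liftCoborder_ι
    have hr : Set.range k = Set.range i.liftCoborder := by
      apply Set.image_injective.mpr i.coborderRange.ι.isEmbedding.injective
      rw [← Set.range_comp, ← Set.range_comp, ← TopCat.coe_comp, ← TopCat.coe_comp,
        ← Scheme.Hom.comp_base, ← Scheme.Hom.comp_base, hk, hl, h, h']
    have : IsPreimmersion (k ≫ i.coborderRange.ι) := hk ▸ inferInstance
    have := IsPreimmersion.of_comp k i.coborderRange.ι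
    have : IsClosedImmersion k := IsClosedImmersion.of_isPreimmersion k (by
      rw [hr]; exact i.liftCoborder.isClosedEmbedding.isClosed_range)
    obtain ⟨e, he⟩ := exists_iso_of_range_eq i.liftCoborder k hr.symm
    exact ⟨e, by rw [← hk, reassoc_of% he, hl]⟩

/-- A morphism from a reduced irreducible scheme factors through an irreducible component. -/
lemma exists_factor_irreducibleComponent (f : X ⟶ Y) [IsReduced X] [IrreducibleSpace X] :
    ∃ (T : Closeds Y) (_ : (T : Set Y) ∈ irreducibleComponents Y)
      (_ : IsIntegral (Scheme.IdealSheafData.vanishingIdeal T).subscheme)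
      (g : X ⟶ (Scheme.IdealSheafData.vanishingIdeal T).subscheme),
      g ≫ (Scheme.IdealSheafData.vanishingIdeal T).subschemeι = f := by
  obtain ⟨T, hT, hsub⟩ := exists_mem_irreducibleComponents_subset_of_isIrreducible (Set.range f)
    (by rw [← Set.image_univ]; exact (IrreducibleSpace.isIrreducible_univ _).image f f.continuous.continuousOn)
  let T' : Closeds Y := ⟨T, isClosed_of_mem_irreducibleComponents T hT⟩
  have := isReduced_vanishingIdeal_subscheme T'
  have hi := range_vanishingIdeal_subschemeι T'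
  have : IrreducibleSpace (Scheme.IdealSheafData.vanishingIdeal T').subscheme := by
    let ι := (Scheme.IdealSheafData.vanishingIdeal T').subschemeι
    have hirr : IsIrreducible (Set.range ι) := hi.symm ▸ hT.1
    rw [irreducibleSpace_def, Set.top_eq_univ]
    refine ⟨?_, ?_⟩
    · obtain ⟨y, hy⟩ := hT.1.nonempty
      obtain ⟨w, -⟩ := hi.ge hy
      exact ⟨w, trivial⟩
    · rintro u v hu hv ⟨a, -, hau⟩ ⟨b, -, hbv⟩
      obtain ⟨u', hu', rfl⟩ := ι.isEmbedding.isInducing.isOpen_iff.mp hu
      obtain ⟨v', hv', rfl⟩ := ι.isEmbedding.isInducing.isOpen_iff.mp hv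
      obtain ⟨_, ⟨w, rfl⟩, hw⟩ := hirr.2 u' v' hu' hv' ⟨ι a, ⟨a, rfl⟩, hau⟩ ⟨ι b, ⟨b, rfl⟩, hbv⟩
      exact ⟨w, trivial, hw⟩
  have := isIntegral_of_irreducibleSpace_of_isReduced (Scheme.IdealSheafData.vanishingIdeal T').subscheme
  obtain ⟨g, hg⟩ := exists_lift_of_isReduced f
    (Scheme.IdealSheafData.vanishingIdeal T').subschemeι (hsub.trans hi.ge)
  exact ⟨T', hT, this, g, hg⟩

end Groth.PropsBasic2
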