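import Mathlib.AlgebraicGeometry.Morphisms.Separated
import Mathlib.AlgebraicGeometry.Morphisms.Affine
import Mathlib.AlgebraicGeometry.Morphisms.ClosedImmersion
import Mathlib.AlgebraicGeometry.PullbackCarrier

/-! Separatedness over an affine base in terms of intersections of affines in a cover. -/

universe v u

open AlgebraicGeometry CategoryTheory Limits

namespace Groth.PropsBasic2.SepGen

lemma closure_eq_top_of_isPushout {R A B P : CommRingCat.{u}} {a : R ⟶ A} {b : R ⟶ B}
    {i : A ⟶ P} {j : B ⟶ P} (h : IsPushout a b i j) :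
    Subring.closure (Set.range i.hom ∪ Set.range j.hom) = ⊤ := by
  set T := Subring.closure (Set.range i.hom ∪ Set.range j.hom)
  let i' : A ⟶ CommRingCat.of T := CommRingCat.ofHom
    (i.hom.codRestrict T fun x => Subring.subset_closure (Or.inl ⟨x, rfl⟩))
  let j' : B ⟶ CommRingCat.of T := CommRingCat.ofHom
    (j.hom.codRestrict T fun x => Subring.subset_closure (Or.inr ⟨x, rfl⟩))
  have w : a ≫ i' = b ≫ j' := by
    ext x
    exact congr($(h.w) x)
  have hid : h.desc i' j' w ≫ CommRingCat.ofHom T.subtype = 𝟙 P := by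
    apply h.hom_ext
    · rw [IsPushout.inl_desc_assoc, Category.comp_id]; rfl
    · rw [IsPushout.inr_desc_assoc, Category.comp_id]; rfl
  rw [eq_top_iff]
  intro p _
  rw [← show ((h.desc i' j' w p : T) : P) = p from congr($hid p)]
  exact (h.desc i' j' w p).2

variable {X Y : Scheme.{u}}

/-- The canonical morphism `U ⊓ V ⟶ U ×_Y V`. -/
noncomputable def diag (f : X ⟶ Y) (U V : X.Opens) :
    (U ⊓ V).toScheme ⟶ pullback (U.ι ≫ f) (V.ι ≫ f) :=
  pullback.lift (X.homOfLE inf_le_left) (X.homOfLE inf_le_right) (by simp)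

lemma isPullback_diag (f : X ⟶ Y) (U V : X.Opens) :
    IsPullback (diag f U V) (U ⊓ V).ι
      (pullback.map (U.ι ≫ f) (V.ι ≫ f) f f U.ι V.ι (𝟙 Y) (by simp) (by simp))
      (pullback.diagonal f) := by
  refine IsOpenImmersion.isPullback _ _ _ _ ?_ ?_
  · apply pullback.hom_ext <;> simp [diag, pullback.map] <;>
      first
      | (erw [pullback.lift_fst, pullback.lift_fst_assoc]; simp)
      | (erw [pullback.lift_snd, pullback.lift_snd_assoc]; simp)
  · ext x
    change pullback.diagonal f x ∈ Set.range _ ↔ x ∈ Set.range (U ⊓ V).ι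
    rw [Scheme.Pullback.range_map, Scheme.Opens.range_ι, Scheme.Opens.range_ι,
      Scheme.Opens.range_ι]
    simp only [Set.mem_inter_iff, Set.mem_preimage, SetLike.mem_coe,
      ← Scheme.Hom.comp_apply, pullback.diagonal_fst, pullback.diagonal_snd]
    rfl

lemma pullbackHom_iff (f : X ⟶ Y) {ι : Type v} (U : ι → X.Opens) {hcov : ⨆ i, U i = ⊤} (i j : ι) :
    IsClosedImmersion ((Scheme.Pullback.openCoverOfLeftRight (X.openCoverOfIsOpenCover U hcov)
      (X.openCoverOfIsOpenCover U hcov) f f).pullbackHom (pullback.diagonal f) (i, j)) ↔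
      IsClosedImmersion (diag f (U i) (U j)) := by
  have h := isPullback_diag f (U i) (U j)
  rw [← h.flip.isoPullback_hom_snd, MorphismProperty.cancel_left_of_respectsIso (P := @IsClosedImmersion)]
  rfl

lemma key [IsAffine Y] (f : X ⟶ Y) {U V : X.Opens} (hU : IsAffineOpen U) (hV : IsAffineOpen V) :
    IsClosedImmersion (diag f U V) ↔ IsAffineOpen (U ⊓ V) ∧
      Subring.closure (Set.range (X.presheaf.map (homOfLE (inf_le_left : U ⊓ V ≤ U)).op).hom ∪
        Set.range (X.presheaf.map (homOfLE (inf_le_right : U ⊓ V ≤ V)).op).hom) = ⊤ := by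
  have : IsAffine U := hU
  have : IsAffine V := hV
  let P := pullback (U.ι ≫ f) (V.ι ≫ f)
  have hpush := isPushout_appTop_of_isPullback (IsPullback.of_hasPullback (U.ι ≫ f) (V.ι ≫ f))
  have hgen := closure_eq_top_of_isPushout hpush
  let d := (diag f U V).appTop
  have h1 : (pullback.fst (U.ι ≫ f) (V.ι ≫ f)).appTop ≫ d ≫ (U ⊓ V).topIso.hom =
      U.topIso.hom ≫ X.presheaf.map (homOfLE (inf_le_left : U ⊓ V ≤ U)).op := by
    rw [← Scheme.Hom.comp_appTop_assoc, diag, pullback.lift_fst]
    simp only [Scheme.Hom.appTop, Scheme.homOfLE_app, Scheme.Opens.topIso_hom]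
    exact (X.presheaf.map_comp _ _).symm.trans
      ((congrArg X.presheaf.map (Subsingleton.elim _ _)).trans (X.presheaf.map_comp _ _))
  have h2 : (pullback.snd (U.ι ≫ f) (V.ι ≫ f)).appTop ≫ d ≫ (U ⊓ V).topIso.hom =
      V.topIso.hom ≫ X.presheaf.map (homOfLE (inf_le_right : U ⊓ V ≤ V)).op := by
    rw [← Scheme.Hom.comp_appTop_assoc, diag, pullback.lift_snd]
    simp only [Scheme.Hom.appTop, Scheme.homOfLE_app, Scheme.Opens.topIso_hom]
    exact (X.presheaf.map_comp _ _).symm.trans
      ((congrArg X.presheaf.map (Subsingleton.elim _ _)).trans (X.presheaf.map_comp _ _))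
  have hrange : Subring.closure
      (Set.range (X.presheaf.map (homOfLE (inf_le_left : U ⊓ V ≤ U)).op).hom ∪
        Set.range (X.presheaf.map (homOfLE (inf_le_right : U ⊓ V ≤ V)).op).hom) =
      RingHom.range (d ≫ (U ⊓ V).topIso.hom).hom := by
    have e1 : Set.range (X.presheaf.map (homOfLE (inf_le_left : U ⊓ V ≤ U)).op).hom =
        (d ≫ (U ⊓ V).topIso.hom).hom '' Set.range (pullback.fst (U.ι ≫ f) (V.ι ≫ f)).appTop.hom := by
      rw [← Set.range_comp]
      refine .trans ?_ (congrArg (fun m : Γ(U, ⊤) ⟶ _ => Set.range m.hom) h1.symm)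
      exact ((ConcreteCategory.bijective_of_isIso U.topIso.hom).2.range_comp _).symm
    have e2 : Set.range (X.presheaf.map (homOfLE (inf_le_right : U ⊓ V ≤ V)).op).hom =
        (d ≫ (U ⊓ V).topIso.hom).hom '' Set.range (pullback.snd (U.ι ≫ f) (V.ι ≫ f)).appTop.hom := by
      rw [← Set.range_comp]
      refine .trans ?_ (congrArg (fun m : Γ(V, ⊤) ⟶ _ => Set.range m.hom) h2.symm)
      exact ((ConcreteCategory.bijective_of_isIso V.topIso.hom).2.range_comp _).symm
    rw [e1, e2, ← Set.image_union, ← RingHom.map_closure, hgen, RingHom.range_eq_map]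
  rw [hrange, RingHom.range_eq_top, CommRingCat.hom_comp, RingHom.coe_comp,
    Function.Surjective.of_comp_iff' (ConcreteCategory.bijective_of_isIso (U ⊓ V).topIso.hom)]
  refine ⟨fun h => IsClosedImmersion.isAffine_surjective_of_isAffine (diag f U V), ?_⟩
  rintro ⟨h, hs⟩
  have : IsAffine (U ⊓ V).toScheme := h
  exact IsClosedImmersion.of_surjective_of_isAffine _ hs

end Groth.PropsBasic2.SepGen
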