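import Mathlib.AlgebraicGeometry.Morphisms.QuasiCompact
import Mathlib.AlgebraicGeometry.Stalk
import Mathlib.AlgebraicGeometry.Properties
import Mathlib.Topology.Sober
import Mathlib.Topology.NoetherianSpace
import Mathlib.RingTheory.Ideal.MinimalPrime.Localization

/-! Topology of schemes: generic points, quasi-compact morphisms, irreducible components. -/

universe u

open AlgebraicGeometry CategoryTheory TopologicalSpace

namespace Groth.PropsBasic2

lemma closure_mem_irreducibleComponents_iff {α : Type*} [TopologicalSpace α] [QuasiSober α]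
    [T0Space α] (y : α) :
    closure {y} ∈ irreducibleComponents α ↔ ∀ z : α, z ⤳ y → z = y := by
  constructor
  · intro h z hz
    have : closure ({z} : Set α) ⊆ closure {y} :=
      h.2 isIrreducible_singleton.closure (specializes_iff_closure_subset.mp hz)
    exact ((specializes_iff_closure_subset.mpr this).antisymm hz).eq.symm
  · intro h
    refine ⟨isIrreducible_singleton.closure, fun s hs hys => ?_⟩
    obtain ⟨z, hz⟩ := QuasiSober.sober hs.closure isClosed_closure
    have hzy : z ⤳ y :=
      hz.specializes (subset_closure (hys (subset_closure rfl)))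
    obtain rfl := h z hzy
    exact subset_closure.trans hz.def.ge

lemma exists_genericPoint_specializes {α : Type*} [TopologicalSpace α] [QuasiSober α]
    [T0Space α] (x : α) : ∃ z, closure {z} ∈ irreducibleComponents α ∧ z ⤳ x := by
  obtain ⟨s, hs, hxs⟩ := exists_mem_irreducibleComponents_subset_of_isIrreducible {x}
    isIrreducible_singleton
  obtain ⟨z, hz⟩ := QuasiSober.sober hs.1 (isClosed_of_mem_irreducibleComponents s hs)
  exact ⟨z, by rw [hz.def]; exact hs, hz.specializes (hxs rfl)⟩

variable {X Y : Scheme.{u}}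

/-- The closure of the image of a quasi-compact morphism is its specialization hull. -/
lemma exists_specializes_of_mem_closure_range (f : X ⟶ Y) [QuasiCompact f] {y : Y}
    (hy : y ∈ closure (Set.range f)) : ∃ x : X, f x ⤳ y := by
  obtain ⟨_, ⟨V, hV, rfl⟩, hyV, -⟩ :=
    Y.isBasis_affineOpens.exists_subset_of_mem_open (Set.mem_univ y) isOpen_univ
  have hcpt : CompactSpace (f ⁻¹ᵁ V : X.Opens) :=
    isCompact_iff_compactSpace.mp (f.isCompact_preimage hV.isCompact)
  obtain ⟨R, g, hg⟩ := compactSpace_iff_exists.mp hcpt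
  obtain ⟨ψ, hψ⟩ := Spec.map_surjective (g ≫ f ∣_ V ≫ hV.isoSpec.hom)
  let k : Spec R ⟶ Spec Γ(Y, V) := Spec.map ψ
  have hk : k ≫ hV.fromSpec = g ≫ (f ⁻¹ᵁ V).ι ≫ f := by
    show Spec.map ψ ≫ _ = _
    rw [hψ]; simp [IsAffineOpen.isoSpec_hom]
  have himg : hV.fromSpec '' Set.range k = Set.range f ∩ V := by
    rw [← Set.range_comp]
    ext z
    constructor
    · rintro ⟨w, rfl⟩
      have : hV.fromSpec (k w) = f ((f ⁻¹ᵁ V).ι (g w)) := congrArg (fun q => q.base w) hk
      simp only [Function.comp_apply, this]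
      exact ⟨⟨_, rfl⟩, (g w).2⟩
    · rintro ⟨⟨x, rfl⟩, hx⟩
      obtain ⟨w, hw⟩ := hg ⟨x, hx⟩
      refine ⟨w, ?_⟩
      have : hV.fromSpec (k w) = f ((f ⁻¹ᵁ V).ι (g w)) := congrArg (fun q => q.base w) hk
      simpa [hw] using this
  obtain ⟨p, hp⟩ : y ∈ Set.range hV.fromSpec := by rw [hV.range_fromSpec]; exact hyV
  have hpc : p ∈ closure (Set.range k) := by
    rw [hV.fromSpec.isOpenEmbedding.isEmbedding.closure_eq_preimage_closure_image, himg]
    rw [Set.mem_preimage]
    rw [hp, Set.inter_comm]
    have hmem : y ∈ (V : Set Y) ∩ closure (Set.range f) := And.intro hyV hy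
    exact IsOpen.inter_closure V.isOpen hmem
  have hpk : RingHom.ker ψ.hom ≤ p.asIdeal := by
    have : p ∈ PrimeSpectrum.zeroLocus (RingHom.ker ψ.hom : Set Γ(Y, V)) := by
      rw [← PrimeSpectrum.closure_range_comap]; exact hpc
    exact this
  obtain ⟨q, hq, hqp⟩ := Ideal.exists_minimalPrimes_le hpk
  obtain ⟨P, hP, -, hPq⟩ := Ideal.exists_comap_eq_of_mem_minimalPrimes ψ.hom (I := ⊥) q hq
  refine ⟨(f ⁻¹ᵁ V).ι (g ⟨P, hP⟩), ?_⟩
  have : hV.fromSpec (k ⟨P, hP⟩) = f ((f ⁻¹ᵁ V).ι (g ⟨P, hP⟩)) :=
    congrArg (fun r => r.base (⟨P, hP⟩ : PrimeSpectrum R)) hk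
  rw [← this, ← hp]
  refine Specializes.map ((PrimeSpectrum.le_iff_specializes _ p).mp ?_) hV.fromSpec.continuous
  show P.comap ψ.hom ≤ p.asIdeal
  rw [hPq]; exact hqp

/-- The points of `Spec O_x` are the generalizations of `x`. -/
lemma mem_range_fromSpecStalk_iff {x y : X} : y ∈ Set.range (X.fromSpecStalk x) ↔ y ⤳ x := by
  rw [Scheme.range_fromSpecStalk]; rfl

/-- `nilradical O_x` is prime iff `x` lies on exactly one irreducible component. -/
lemma pairwiseDisjoint_irreducibleComponents_iff :
    (irreducibleComponents (X : Type u)).PairwiseDisjoint id ↔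
      ∀ x : X, (nilradical (X.presheaf.stalk x)).IsPrime := by
  constructor
  · intro h x
    rw [← PrimeSpectrum.irreducibleSpace_iff_isPrime_nilradical]
    obtain ⟨η, hη, hηx⟩ := exists_genericPoint_specializes (x : X)
    obtain ⟨p, hp⟩ := mem_range_fromSpecStalk_iff.mpr hηx
    have : ∀ q : PrimeSpectrum (X.presheaf.stalk x), p ⤳ q := by
      intro q
      rw [← (X.fromSpecStalk x).isEmbedding.specializes_iff, hp]
      obtain ⟨η', hη', h'⟩ := exists_genericPoint_specializes (X.fromSpecStalk x q)
      have hq : X.fromSpecStalk x q ⤳ x := mem_range_fromSpecStalk_iff.mp ⟨q, rfl⟩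
      have : closure ({η} : Set X) = closure {η'} := by
        by_contra hne
        exact Set.disjoint_left.mp (h hη hη' hne) hηx.mem_closure (h'.trans hq).mem_closure
      exact (specializes_iff_closure_subset.mpr this.ge).trans h'
    have : Set.univ = closure ({p} : Set (PrimeSpectrum (X.presheaf.stalk x))) :=
      Set.ext fun q => by simp only [Set.mem_univ, true_iff]; exact (this q).mem_closure
    rw [irreducibleSpace_def, Set.top_eq_univ, this]
    exact isIrreducible_singleton.closure
  · intro h Z hZ Z' hZ' hne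
    rw [Function.onFun, Set.disjoint_left]
    intro x hxZ hxZ'
    have := PrimeSpectrum.irreducibleSpace_iff_isPrime_nilradical.mpr (h x)
    let μ : PrimeSpectrum (X.presheaf.stalk x) := genericPoint _
    have key : ∀ W ∈ irreducibleComponents (X : Type u), x ∈ W →
        W = closure {X.fromSpecStalk x μ} := by
      intro W hW hxW
      obtain ⟨w, hw⟩ := QuasiSober.sober hW.1 (isClosed_of_mem_irreducibleComponents W hW)
      obtain ⟨q, hq⟩ := mem_range_fromSpecStalk_iff.mpr (hw.specializes hxW)
      have hμ : X.fromSpecStalk x μ ⤳ w := by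
        rw [← hq]
        exact ((genericPoint_spec _).specializes trivial).map (X.fromSpecStalk x).continuous
      have hcw : closure ({w} : Set X) ∈ irreducibleComponents (X : Type u) := by rw [hw.def]; exact hW
      rw [(closure_mem_irreducibleComponents_iff w).mp hcw _ hμ, hw.def]
    exact hne ((key Z hZ hxZ).trans (key Z' hZ' hxZ').symm)

lemma closure_mem_irreducibleComponents_iff_subsingleton (y : X) :
    closure {y} ∈ irreducibleComponents (X : Type u) ↔
      Subsingleton (PrimeSpectrum (X.presheaf.stalk y)) := by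
  rw [closure_mem_irreducibleComponents_iff]
  constructor
  · intro h
    refine ⟨fun p q => (X.fromSpecStalk y).isEmbedding.injective ?_⟩
    rw [h _ (mem_range_fromSpecStalk_iff.mp ⟨p, rfl⟩), h _ (mem_range_fromSpecStalk_iff.mp ⟨q, rfl⟩)]
  · intro h z hz
    obtain ⟨p, hp⟩ := mem_range_fromSpecStalk_iff.mpr hz
    have : p = IsLocalRing.closedPoint _ := h.elim _ _
    rw [← hp, this, Scheme.fromSpecStalk_closedPoint]

end Groth.PropsBasic2
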