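import Mathlib.AlgebraicGeometry.FunctionField
import Mathlib.AlgebraicGeometry.Morphisms.Separated
import Mathlib.AlgebraicGeometry.ResidueField
import Mathlib.AlgebraicGeometry.Morphisms.Immersion
import Mathlib.RingTheory.LocalRing.LocalSubring

/-! Local rings of an integral scheme inside its function field. -/

universe u

open AlgebraicGeometry CategoryTheory Limits

namespace Groth.PropsBasic2

variable {X : Scheme.{u}}

/-- Two morphisms from the spectrum of a domain to a separated scheme which agree after an
injective ring map into a field are equal. -/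
lemma hom_ext_of_injective [X.IsSeparated] {Q K : CommRingCat.{u}} [IsDomain Q]
    (i : Q ⟶ K) (hi : Function.Injective i) {a b : Spec Q ⟶ X}
    (h : Spec.map i ≫ a = Spec.map i ≫ b) : a = b := by
  have : IsDominant (Spec.map i) := ⟨by
    rw [Spec.map_base]
    exact (PrimeSpectrum.denseRange_comap_iff_ker_le_nilRadical i.hom).mpr
      (((RingHom.injective_iff_ker_eq_bot i.hom).mp hi).trans_le bot_le)⟩
  exact ext_of_isDominant (Spec.map i) h

lemma generic_specializes [IrreducibleSpace X] (x : X) : genericPoint X ⤳ x :=
  (genericPoint_spec X).specializes trivial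

/-- The inclusion of a local ring in the function field. -/
noncomputable abbrev toFF [IrreducibleSpace X] (x : X) :
    X.presheaf.stalk x ⟶ X.functionField :=
  X.presheaf.stalkSpecializes (generic_specializes x)

lemma algebraMap_eq_toFF [IrreducibleSpace X] (x : X) :
    algebraMap (X.presheaf.stalk x) X.functionField = (toFF x).hom := rfl

lemma toFF_injective [IsIntegral X] (x : X) : Function.Injective (toFF x) :=
  IsFractionRing.injective (X.presheaf.stalk x) X.functionField

/-- If a local homomorphism to a domain, compatible with the inclusion into the function field,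
exists from `O_x` and from `O_y`, then `x = y`. -/
lemma eq_of_isLocalHom [IsIntegral X] [X.IsSeparated] {x y : X} {Q : CommRingCat.{u}}
    [IsDomain Q] [IsLocalRing Q] (i : Q ⟶ X.functionField) (hi : Function.Injective i)
    (α : X.presheaf.stalk x ⟶ Q) [IsLocalHom α.hom] (β : X.presheaf.stalk y ⟶ Q)
    [IsLocalHom β.hom] (hα : α ≫ i = toFF x) (hβ : β ≫ i = toFF y) : x = y := by
  have h : Spec.map α ≫ X.fromSpecStalk x = Spec.map β ≫ X.fromSpecStalk y := by
    apply hom_ext_of_injective i hi
    rw [← Spec.map_comp_assoc, ← Spec.map_comp_assoc, hα, hβ,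
      Scheme.SpecMap_stalkSpecializes_fromSpecStalk, Scheme.SpecMap_stalkSpecializes_fromSpecStalk]
  have h2 := congrArg (fun q => q.base (IsLocalRing.closedPoint Q)) h
  simpa using h2

/-- Inclusion of local rings forces specialization. -/
lemma specializes_of_comp_eq [IsIntegral X] [X.IsSeparated] {x y : X}
    (α : X.presheaf.stalk x ⟶ X.presheaf.stalk y) (hα : α ≫ toFF y = toFF x) : y ⤳ x := by
  have h : Spec.map α ≫ X.fromSpecStalk x = X.fromSpecStalk y := by
    apply hom_ext_of_injective (toFF y) (toFF_injective y)
    rw [← Spec.map_comp_assoc, hα,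
      Scheme.SpecMap_stalkSpecializes_fromSpecStalk, Scheme.SpecMap_stalkSpecializes_fromSpecStalk]
  have h2 : y ∈ Set.range (X.fromSpecStalk x) := by
    refine ⟨(Spec.map α) (IsLocalRing.closedPoint _), ?_⟩
    rw [← Scheme.Hom.comp_apply, h, Scheme.fromSpecStalk_closedPoint]
  rwa [Scheme.range_fromSpecStalk] at h2

lemma exists_comp_eq_of_range_le [IsIntegral X] {x y : X}
    (h : (algebraMap (X.presheaf.stalk x) X.functionField).range ≤
      (algebraMap (X.presheaf.stalk y) X.functionField).range) :
    ∃ α : X.presheaf.stalk x ⟶ X.presheaf.stalk y, α ≫ toFF y = toFF x := by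
  let e := RingEquiv.ofBijective (toFF y).hom.rangeRestrict
    ⟨fun a b hab => toFF_injective y (congrArg Subtype.val hab),
      (toFF y).hom.rangeRestrict_surjective⟩
  refine ⟨CommRingCat.ofHom
    (e.symm.toRingHom.comp ((Subring.inclusion h).comp (toFF x).hom.rangeRestrict)), ?_⟩
  ext t
  exact congrArg Subtype.val (e.apply_symm_apply (Subring.inclusion h ((toFF x).hom.rangeRestrict t)))

lemma range_le_range_of_comp {A B K : Type u} [CommRing A] [CommRing B] [Field K]
    [IsLocalRing A] [IsLocalRing B] (a : A →+* B) [IsLocalHom a] (g : B →+* K) (f : A →+* K)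
    (h : g.comp a = f) : LocalSubring.range f ≤ LocalSubring.range g := by
  subst h
  have hle : (LocalSubring.range (g.comp a)).toSubring ≤ (LocalSubring.range g).toSubring := by
    rintro _ ⟨t, rfl⟩; exact ⟨a t, rfl⟩
  refine ⟨hle, ⟨?_⟩⟩
  rintro ⟨_, t, rfl⟩ hu
  have : IsLocalHom g.rangeRestrict :=
    IsLocalHom.of_surjective _ g.rangeRestrict_surjective
  have : IsUnit t := isUnit_of_map_unit a _ (isUnit_of_map_unit g.rangeRestrict (a t) hu)
  exact this.map (g.comp a).rangeRestrict

/-- The converse: domination of local rings separates points implies separated. -/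
lemma isSeparated_of_dominated [IsIntegral X]
    (H : ∀ (x y : X) (Q : LocalSubring X.functionField),
      LocalSubring.range (algebraMap (X.presheaf.stalk x) X.functionField) ≤ Q →
      LocalSubring.range (algebraMap (X.presheaf.stalk y) X.functionField) ≤ Q → x = y) :
    X.IsSeparated := by
  refine ⟨⟨?_⟩⟩
  set Δ := pullback.diagonal (terminal.from X)
  set η := genericPoint X
  refine IsClosedImmersion.of_isPreimmersion Δ (isClosed_of_closure_subset fun z hz => ?_)
  have hgen : Δ η ⤳ z := by
    rw [specializes_iff_mem_closure]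
    refine closure_minimal ?_ isClosed_closure hz
    rintro _ ⟨x, rfl⟩
    exact specializes_iff_mem_closure.mp ((generic_specializes x).map Δ.continuous)
  let h : (pullback.diagonalObj (terminal.from X)).presheaf.stalk z ⟶ X.functionField :=
    (pullback.diagonalObj (terminal.from X)).presheaf.stalkSpecializes hgen ≫ Δ.stalkMap η
  have key : ∀ p : pullback.diagonalObj (terminal.from X) ⟶ X, Δ ≫ p = 𝟙 X →
      p.stalkMap z ≫ h = toFF (p z) := by
    intro p hp
    apply Spec.map_injective
    rw [← cancel_mono (X.fromSpecStalk (p z)), Spec.map_comp, Category.assoc,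
      Scheme.SpecMap_stalkMap_fromSpecStalk, Scheme.SpecMap_stalkSpecializes_fromSpecStalk,
      Spec.map_comp, Category.assoc, Scheme.SpecMap_stalkSpecializes_fromSpecStalk_assoc,
      Scheme.SpecMap_stalkMap_fromSpecStalk_assoc, hp, Category.comp_id]
  have k1 := key _ (pullback.diagonal_fst _)
  have k2 := key _ (pullback.diagonal_snd _)
  have hxy := H _ _ (LocalSubring.range h.hom)
    (range_le_range_of_comp ((pullback.fst _ _ : _ ⟶ X).stalkMap z).hom h.hom _
      (congrArg CommRingCat.Hom.hom k1))
    (range_le_range_of_comp ((pullback.snd _ _ : _ ⟶ X).stalkMap z).hom h.hom _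
      (congrArg CommRingCat.Hom.hom k2))
  have cast_lem : ∀ (a b : X) (_ : a = b) (A : X.presheaf.stalk a ⟶ _)
      (B : X.presheaf.stalk b ⟶ (pullback.diagonalObj (terminal.from X)).presheaf.stalk z),
      A ≫ h = toFF a → B ≫ h = toFF b →
      Spec.map (A ≫ Scheme.residue _ z) ≫ X.fromSpecStalk a =
        Spec.map (B ≫ Scheme.residue _ z) ≫ X.fromSpecStalk b := by
    rintro a _ rfl A B hA hB
    congr 2
    ext t
    refine Ideal.Quotient.eq.mpr ?_
    refine IsLocalRing.le_maximalIdeal (RingHom.ker_ne_top h.hom) ?_
    rw [RingHom.mem_ker, map_sub, sub_eq_zero]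
    exact (ConcreteCategory.congr_hom hA t).trans (ConcreteCategory.congr_hom hB t).symm
  have k3 := cast_lem _ _ hxy _ _ k1 k2
  rw [Spec.map_comp, Category.assoc, Scheme.SpecMap_stalkMap_fromSpecStalk, Spec.map_comp,
    Category.assoc, Scheme.SpecMap_stalkMap_fromSpecStalk, ← Category.assoc, ← Category.assoc] at k3
  change Scheme.fromSpecResidueField _ z ≫ _ = Scheme.fromSpecResidueField _ z ≫ _ at k3
  have k4 : Scheme.fromSpecResidueField _ z =
      (Scheme.fromSpecResidueField _ z ≫ pullback.fst _ _) ≫ Δ := by
    apply pullback.hom_ext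
    · simp [Δ]
    · simpa [Δ] using k3.symm
  obtain ⟨w, hw⟩ : z ∈ Set.range (Scheme.fromSpecResidueField
      (pullback.diagonalObj (terminal.from X)) z) := by
    rw [Scheme.range_fromSpecResidueField]; rfl
  refine ⟨(Scheme.fromSpecResidueField _ z ≫ pullback.fst _ _) w, ?_⟩
  rw [← Scheme.Hom.comp_apply, ← k4, hw]

end Groth.PropsBasic2
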