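import Mathlib.AlgebraicGeometry.ZariskisMainTheorem
import Mathlib.AlgebraicGeometry.Morphisms.UniversallyInjective
import Mathlib.AlgebraicGeometry.Morphisms.FormallyUnramified
import Mathlib.AlgebraicGeometry.Morphisms.FinitePresentation
import Mathlib.FieldTheory.IsAlgClosed.AlgebraicClosure
import Mathlib.RingTheory.Ideal.GoingUp
import Groth.Agent.PropsBasic2.FunField

/-! Assorted basic properties of morphisms. -/

universe u

open AlgebraicGeometry CategoryTheory Limits TopologicalSpace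

namespace Groth.PropsBasic2

variable {X Y S : Scheme.{u}}

lemma isFinite_morphismRestrict_iSup (f : X ⟶ Y) {ι : Type*} (V : ι → Y.Opens)
    (h : ∀ i, IsFinite (f ∣_ V i)) : IsFinite (f ∣_ ⨆ i, V i) := by
  refine IsZariskiLocalAtTarget.of_iSup_eq_top (fun i => (⨆ i, V i).ι ⁻¹ᵁ V i) ?_ fun i => ?_
  · rw [← Scheme.Hom.preimage_iSup]; exact eq_top_iff.mpr fun w _ => w.2
  · rw [MorphismProperty.arrow_mk_iso_iff (P := @IsFinite) (morphismRestrictRestrict _ _ _)]
    have : (⨆ i, V i).ι ''ᵁ ((⨆ i, V i).ι ⁻¹ᵁ V i) = V i := by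
      rw [Scheme.Hom.image_preimage_eq_opensRange_inf, Scheme.Opens.opensRange_ι]
      exact inf_eq_right.mpr (le_iSup V i)
    rw [MorphismProperty.arrow_mk_iso_iff (P := @IsFinite) (morphismRestrictEq _ this)]
    exact h i

lemma lfp_of_comp (f : X ⟶ Y) (g : Y ⟶ S) [LocallyOfFinitePresentation (f ≫ g)]
    [LocallyOfFiniteType g] : LocallyOfFinitePresentation f := by
  rw [HasRingHomProperty.iff_exists_appLE (P := @LocallyOfFinitePresentation)
    (RingHom.finitePresentation_stableUnderComposition.stableUnderCompositionWithLocalizationAway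
      RingHom.finitePresentation_holdsForLocalizationAway).left]
  intro x
  obtain ⟨_, ⟨W, hW, rfl⟩, hxW, -⟩ :=
    S.isBasis_affineOpens.exists_subset_of_mem_open (Set.mem_univ (g (f x))) isOpen_univ
  obtain ⟨_, ⟨V, hV, rfl⟩, hxV, hVW⟩ :=
    Y.isBasis_affineOpens.exists_subset_of_mem_open (show f x ∈ g ⁻¹ᵁ W from hxW) (g ⁻¹ᵁ W).2
  obtain ⟨_, ⟨U, hU, rfl⟩, hxU, hUV⟩ :=
    X.isBasis_affineOpens.exists_subset_of_mem_open (show x ∈ f ⁻¹ᵁ V from hxV) (f ⁻¹ᵁ V).2
  refine ⟨⟨V, hV⟩, ⟨U, hU⟩, hxU, hUV, ?_⟩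
  have h := (f ≫ g).finitePresentation_appLE hW hU (fun z hz => hVW (hUV hz))
  rw [← Scheme.Hom.appLE_comp_appLE f g W V U hVW hUV, CommRingCat.hom_comp] at h
  exact RingHom.FinitePresentation.of_comp_finiteType _ h (g.finiteType_appLE hW hV hVW)

lemma isClosedImmersion_of_injective_points (f : X ⟶ Y) [IsProper f] [FormallyUnramified f]
    (hinj : ∀ (Ω : Type u) [Field Ω] [IsAlgClosed Ω],
      Function.Injective (fun g : Spec (CommRingCat.of Ω) ⟶ X => g ≫ f)) :
    IsClosedImmersion f := by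
  have hsurj : Surjective (pullback.diagonal f) := ⟨fun z => by
    let K := AlgebraicClosure ((pullback f f).residueField z)
    let φ : Spec (CommRingCat.of K) ⟶ pullback f f :=
      Spec.map (CommRingCat.ofHom (algebraMap ((pullback f f).residueField z) K)) ≫
        (pullback f f).fromSpecResidueField z
    have h1 : φ ≫ pullback.fst f f = φ ≫ pullback.snd f f := hinj K (by simp [pullback.condition])
    have h2 : φ = (φ ≫ pullback.fst f f) ≫ pullback.diagonal f := by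
      apply pullback.hom_ext <;> simp [h1]
    refine ⟨(φ ≫ pullback.fst f f) (IsLocalRing.closedPoint K), ?_⟩
    rw [← Scheme.Hom.comp_apply, ← h2, Scheme.Hom.comp_apply, Scheme.fromSpecResidueField_apply]⟩
  have : IsIso (pullback.diagonal f) := by
    rw [isIso_iff_isOpenImmersion_and_epi_base]
    exact ⟨inferInstance, (TopCat.epi_iff_surjective _).mpr hsurj.surj⟩
  have : Mono f := (pullback.isIso_diagonal_iff f).mp this
  rw [IsClosedImmersion.iff_isProper_and_mono]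
  exact ⟨inferInstance, inferInstance⟩

lemma closure_inter_fiber (f : X ⟶ S) [IsIntegralHom f] (x : X) :
    closure {x} ∩ f.base ⁻¹' {f.base x} = {x} := by
  refine subset_antisymm ?_ (Set.singleton_subset_iff.mpr ⟨subset_closure rfl, rfl⟩)
  rintro y ⟨hy, hfy⟩
  replace hy : x ⤳ y := specializes_iff_mem_closure.mpr hy
  replace hfy : f y = f x := hfy
  obtain ⟨_, ⟨V, hV, rfl⟩, hxV, -⟩ :=
    S.isBasis_affineOpens.exists_subset_of_mem_open (Set.mem_univ (f x)) isOpen_univ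
  have hU : IsAffineOpen (f ⁻¹ᵁ V) := hV.preimage f
  have hint : (f.appLE V (f ⁻¹ᵁ V) le_rfl).hom.IsIntegral := by
    rw [← Scheme.Hom.app_eq_appLE]; exact f.isIntegral_app V hV
  have hcomm : ∀ z, hV.fromSpec (PrimeSpectrum.comap (f.appLE V (f ⁻¹ᵁ V) le_rfl).hom z) = f (hU.fromSpec z) :=
    fun z => congrArg (fun r => r.base z) (IsAffineOpen.SpecMap_appLE_fromSpec f hV hU le_rfl)
  obtain ⟨p, hp⟩ : x ∈ Set.range hU.fromSpec := by rw [hU.range_fromSpec]; exact hxV
  obtain ⟨q, hq⟩ : y ∈ Set.range hU.fromSpec := by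
    rw [hU.range_fromSpec]; show f y ∈ V; rw [hfy]; exact hxV
  have hle : p.asIdeal ≤ q.asIdeal := (PrimeSpectrum.le_iff_specializes p q).mpr
    (hU.fromSpec.isOpenEmbedding.isInducing.specializes_iff.mp (hp ▸ hq ▸ hy))
  have he : PrimeSpectrum.comap (f.appLE V (f ⁻¹ᵁ V) le_rfl).hom p =
      PrimeSpectrum.comap (f.appLE V (f ⁻¹ᵁ V) le_rfl).hom q := by
    apply hV.fromSpec.isOpenEmbedding.injective
    rw [hcomm, hcomm, hp, hq, hfy]
  have : p = q := by
    algebraize [(f.appLE V (f ⁻¹ᵁ V) le_rfl).hom]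
    refine PrimeSpectrum.ext (le_antisymm hle fun a ha => ?_)
    by_contra hap
    exact (Ideal.comap_lt_comap_of_integral_mem_sdiff hle ⟨ha, hap⟩ (hint a)).ne
      (congrArg PrimeSpectrum.asIdeal he)
  rw [Set.mem_singleton_iff, ← hp, ← hq, this]

lemma eq_of_eq_generic_closed (A : Type u) [CommRing A] [IsDomain A] [ValuationRing A]
    (K : Type u) [Field K] [Algebra A K] [IsFractionRing A K]
    (ξ η : Spec (CommRingCat.of A) ⟶ Y)
    (hK : Spec.map (CommRingCat.ofHom (algebraMap A K)) ≫ ξ =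
      Spec.map (CommRingCat.ofHom (algebraMap A K)) ≫ η)
    (hk : Spec.map (CommRingCat.ofHom (IsLocalRing.residue A)) ≫ ξ =
      Spec.map (CommRingCat.ofHom (IsLocalRing.residue A)) ≫ η) : ξ = η := by
  let c : Spec (CommRingCat.of A) := IsLocalRing.closedPoint A
  have hc : ξ c = η c := by
    have h := congrArg (fun r : Spec (CommRingCat.of (IsLocalRing.ResidueField A)) ⟶ Y =>
      r (IsLocalRing.closedPoint (IsLocalRing.ResidueField A))) hk
    have e : Spec.map (CommRingCat.ofHom (IsLocalRing.residue A))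
        (IsLocalRing.closedPoint (IsLocalRing.ResidueField A)) = c :=
      IsLocalRing.comap_closedPoint (IsLocalRing.residue A)
    exact (congrArg ξ e).symm.trans (h.trans (congrArg η e))
  obtain ⟨_, ⟨(U : Y.Opens), hU, rfl⟩, hcU, -⟩ :=
    Y.isBasis_affineOpens.exists_subset_of_mem_open (Set.mem_univ (ξ c)) isOpen_univ
  have : IsAffine U := hU
  have key : ∀ t : Spec (CommRingCat.of A) ⟶ Y, t c ∈ U → Set.range t ⊆ Set.range U.ι := by
    intro t ht
    rintro _ ⟨z, rfl⟩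
    rw [Scheme.Opens.range_ι]
    exact ((IsLocalRing.specializes_closedPoint (R := A) z).map t.continuous).mem_open U.2 ht
  let ξ' := IsOpenImmersion.lift U.ι ξ (key ξ hcU)
  let η' := IsOpenImmersion.lift U.ι η (key η (hc ▸ hcU))
  have h1 : ξ' ≫ U.ι = ξ := IsOpenImmersion.lift_fac _ _ _
  have h2 : η' ≫ U.ι = η := IsOpenImmersion.lift_fac _ _ _
  have : ξ' = η' := hom_ext_of_injective (CommRingCat.ofHom (algebraMap A K))
    (IsFractionRing.injective A K) (by rw [← cancel_mono U.ι, Category.assoc, Category.assoc, h1, h2, hK])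
  rw [← h1, ← h2, this]

lemma exists_open_eq [IsReduced S] (ξ η : S ⟶ Y) (D : Set S) (hD : Dense D) [hne : Nonempty S]
    (hpt : ∀ p ∈ D, S.fromSpecResidueField p ≫ ξ = S.fromSpecResidueField p ≫ η) :
    ∃ U : S.Opens, (U : Set S).Nonempty ∧ U.ι ≫ ξ = U.ι ≫ η := by
  obtain ⟨p, hp⟩ := hD.nonempty
  have he : ξ p = η p := by
    have := congrArg (fun r : Spec (S.residueField p) ⟶ Y => r (IsLocalRing.closedPoint (S.residueField p)))
      (hpt p hp)
    simpa using this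
  obtain ⟨_, ⟨(U : Y.Opens), hU, rfl⟩, hpU, -⟩ :=
    Y.isBasis_affineOpens.exists_subset_of_mem_open (Set.mem_univ (ξ p)) isOpen_univ
  have : IsAffine U := hU
  let W : S.Opens := ξ ⁻¹ᵁ U ⊓ η ⁻¹ᵁ U
  refine ⟨W, ⟨p, hpU, show η p ∈ U from he ▸ hpU⟩, ?_⟩
  let a := ξ.resLE U W inf_le_left
  let b := η.resLE U W inf_le_right
  have : a = b := by
    refine ext_of_fromSpecResidueField_eq a b (terminal.from _) (Subtype.val ⁻¹' D) ?_ ?_
      (terminal.hom_ext _ _)
    · exact hD.preimage W.2.isOpenMap_subtype_val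
    · intro w hw
      have e : W.toScheme.fromSpecResidueField w ≫ W.ι =
          Spec.map (W.ι.residueFieldMap w) ≫ S.fromSpecResidueField (W.ι w) :=
        (Scheme.Hom.SpecMap_residueFieldMap_fromSpecResidueField _ _).symm
      rw [← cancel_mono U.ι, Category.assoc, Category.assoc, Scheme.Hom.resLE_comp_ι,
        Scheme.Hom.resLE_comp_ι, reassoc_of% e, reassoc_of% e]
      exact congrArg _ (hpt _ hw)
  rw [← Scheme.Hom.resLE_comp_ι ξ (inf_le_left : W ≤ ξ ⁻¹ᵁ U),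
    ← Scheme.Hom.resLE_comp_ι η (inf_le_right : W ≤ η ⁻¹ᵁ U)]
  exact congrArg (· ≫ U.ι) this

lemma iSup_affine_le (X : Scheme.{u}) (W : X.Opens) :
    ⨆ U : {U : X.affineOpens // (U : X.Opens) ≤ W}, (U.1 : X.Opens) = W := by
  refine le_antisymm (iSup_le fun U => U.2) fun x hx => ?_
  obtain ⟨_, ⟨U, hU, rfl⟩, hxU, hUW⟩ := X.isBasis_affineOpens.exists_subset_of_mem_open hx W.2
  exact Opens.mem_iSup.mpr ⟨⟨⟨U, hU⟩, hUW⟩, hxU⟩

lemma quasiSeparated_of_covers (f : X ⟶ S) {ι : Type*} (W : ι → S.affineOpens)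
    (hW : ⨆ i, (W i : S.Opens) = ⊤) {κ : ι → Type*} (V : ∀ i, κ i → X.affineOpens)
    (hV : ∀ i, ⨆ j, (V i j : X.Opens) = f ⁻¹ᵁ (W i : S.Opens))
    (hVV : ∀ i (j j' : κ i), IsCompact ((V i j : Set X) ∩ (V i j' : Set X))) :
    QuasiSeparated f := by
  rw [HasAffineProperty.iff_of_iSup_eq_top (P := @QuasiSeparated) W hW]
  intro i
  let Z : X.Opens := f ⁻¹ᵁ (W i : S.Opens)
  have hle : ∀ j, (V i j : X.Opens) ≤ Z := fun j => (le_iSup (fun j => (V i j : X.Opens)) j).trans (hV i).le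
  refine Scheme.quasiSeparatedSpace_of_isOpenCover (fun j => Z.ι ⁻¹ᵁ (V i j : X.Opens)) ?_ ?_ ?_
  · refine eq_top_iff.mpr fun z _ => ?_
    obtain ⟨j, hj⟩ := Opens.mem_iSup.mp ((hV i).ge z.2)
    exact Opens.mem_iSup.mpr ⟨j, hj⟩
  · intro j
    refine (Scheme.Hom.isAffineOpen_iff_of_isOpenImmersion Z.ι).mp ?_
    rw [Scheme.Hom.image_preimage_eq_opensRange_inf, Scheme.Opens.opensRange_ι, inf_eq_right.mpr (hle j)]
    exact (V i j).2
  · intro j j'
    rw [Z.ι.isEmbedding.isCompact_iff]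
    convert hVV i j j' using 1
    ext x
    exact ⟨fun ⟨z, hz, e⟩ => e ▸ hz, fun hx => ⟨⟨x, hle j hx.1⟩, hx, rfl⟩⟩

lemma exists_finset_basicOpen (X : Scheme.{u}) {ι : Type*} (U : ι → X.affineOpens)
    (hU : ⨆ i, (U i : X.Opens) = ⊤) (V : X.affineOpens) :
    ∃ s : Finset Γ(X, (V : X.Opens)),
      (⨆ f ∈ s, X.basicOpen f) = (V : X.Opens) ∧
        ∀ f ∈ s, ∃ (i : ι) (g : Γ(X, (U i : X.Opens))), X.basicOpen f = X.basicOpen g := by
  classical
  have h : ∀ x : (V : X.Opens), ∃ (f : Γ(X, (V : X.Opens))) (i : ι) (g : Γ(X, (U i : X.Opens))),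
      X.basicOpen f = X.basicOpen g ∧ x.1 ∈ X.basicOpen f := by
    intro x
    obtain ⟨i, hi⟩ := Opens.mem_iSup.mp (hU.ge (Opens.mem_top x.1))
    obtain ⟨f, g, e, hx⟩ := exists_basicOpen_le_affine_inter V.2 (U i).2 x.1 ⟨x.2, hi⟩
    exact ⟨f, i, g, e, hx⟩
  choose f i g e hx using h
  obtain ⟨t, ht⟩ := V.2.isCompact.elim_finite_subcover (fun x : (V : X.Opens) => (X.basicOpen (f x) : Set X))
    (fun x => (X.basicOpen (f x)).2) fun x hxV => Set.mem_iUnion.mpr ⟨⟨x, hxV⟩, hx ⟨x, hxV⟩⟩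
  refine ⟨t.image f, le_antisymm (iSup₂_le fun a _ => X.basicOpen_le a) fun x hxV => ?_, ?_⟩
  · obtain ⟨y, hy, hxy⟩ := Set.mem_iUnion₂.mp (ht hxV)
    exact Opens.mem_iSup.mpr ⟨f y, Opens.mem_iSup.mpr ⟨Finset.mem_image_of_mem f hy, hxy⟩⟩
  · intro a ha
    obtain ⟨y, -, rfl⟩ := Finset.mem_image.mp ha
    exact ⟨i y, g y, e y⟩

end Groth.PropsBasic2
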