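import Mathlib.Topology.NoetherianSpace
import Mathlib.Topology.Connected.LocallyConnected

/-! Irreducible components of locally Noetherian spaces. -/

open TopologicalSpace Topology

namespace Groth.PropsBasic2

variable {X : Type*} [TopologicalSpace X]

lemma exists_open_noetherian (hX : ∀ x : X, ∃ U ∈ 𝓝 x, NoetherianSpace U) (x : X)
    {V : Set X} (hV : V ∈ 𝓝 x) :
    ∃ W : Set X, IsOpen W ∧ x ∈ W ∧ W ⊆ V ∧ NoetherianSpace W := by
  obtain ⟨U, hU, hn⟩ := hX x
  exact ⟨interior (U ∩ V), isOpen_interior, mem_interior_iff_mem_nhds.mpr (Filter.inter_mem hU hV),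
    interior_subset.trans Set.inter_subset_right,
    NoetherianSpace.of_subset (interior_subset.trans Set.inter_subset_left)⟩

lemma locallyConnectedSpace (hX : ∀ x : X, ∃ U ∈ 𝓝 x, NoetherianSpace U) :
    LocallyConnectedSpace X := by
  rw [locallyConnectedSpace_iff_connected_subsets]
  intro x V hV
  obtain ⟨W, hWo, hxW, hWV, hW⟩ := exists_open_noetherian hX x hV
  set C := {Z ∈ irreducibleComponents W | (⟨x, hxW⟩ : W) ∈ Z}
  set D := {Z ∈ irreducibleComponents W | (⟨x, hxW⟩ : W) ∉ Z}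
  refine ⟨Subtype.val '' ⋃₀ C, ?_, ?_, ?_⟩
  · have hc : IsClosed (⋃₀ D) := by
      rw [Set.sUnion_eq_biUnion]
      exact (NoetherianSpace.finite_irreducibleComponents.subset (Set.sep_subset _ _)).isClosed_biUnion
        fun Z hZ => isClosed_of_mem_irreducibleComponents Z hZ.1
    have hx : (⟨x, hxW⟩ : W) ∈ (⋃₀ D)ᶜ := by rintro ⟨Z, hZ, hm⟩; exact hZ.2 hm
    have hsub : (⋃₀ D)ᶜ ⊆ ⋃₀ C := by
      intro z hz
      have hu : z ∈ ⋃₀ irreducibleComponents W := by rw [sUnion_irreducibleComponents]; trivial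
      obtain ⟨Z, hZ, hzZ⟩ := hu
      by_cases h : (⟨x, hxW⟩ : W) ∈ Z
      · exact ⟨Z, ⟨hZ, h⟩, hzZ⟩
      · exact absurd ⟨Z, ⟨hZ, h⟩, hzZ⟩ hz
    exact Filter.mem_of_superset
      ((hWo.isOpenMap_subtype_val _ hc.isOpen_compl).mem_nhds ⟨_, hx, rfl⟩) (Set.image_mono hsub)
  · exact (isPreconnected_sUnion ⟨x, hxW⟩ C (fun Z hZ => hZ.2)
      fun Z hZ => hZ.1.1.isPreirreducible.isPreconnected).image _ continuous_subtype_val.continuousOn
  · rintro _ ⟨z, -, rfl⟩; exact hWV z.2

lemma eq_of_isOpen_of_mem {Z Z' : Set X} (hZ : Z ∈ irreducibleComponents X)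
    (hZ' : Z' ∈ irreducibleComponents X) (ho : IsOpen Z') {x : X} (hx : x ∈ Z) (hx' : x ∈ Z') :
    Z = Z' := by
  have h := subset_closure_inter_of_isPreirreducible_of_isOpen hZ.1.isPreirreducible ho ⟨x, hx, hx'⟩
  have : Z ⊆ Z' := h.trans ((closure_mono Set.inter_subset_right).trans
    (isClosed_of_mem_irreducibleComponents Z' hZ').closure_subset)
  exact subset_antisymm this (hZ.2 hZ'.1 this)

lemma isOpen_of_pairwiseDisjoint (hX : ∀ x : X, ∃ U ∈ 𝓝 x, NoetherianSpace U)
    (h : (irreducibleComponents X).PairwiseDisjoint id) {Z : Set X}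
    (hZ : Z ∈ irreducibleComponents X) : IsOpen Z := by
  rw [isOpen_iff_forall_mem_open]
  intro x hx
  obtain ⟨W, hWo, hxW, -, hW⟩ := exists_open_noetherian hX x Filter.univ_mem
  set S := {T ∈ irreducibleComponents X | T ≠ Z ∧ (T ∩ W).Nonempty}
  have hS : S.Finite := by
    refine Set.Finite.of_finite_image (f := fun T => (Subtype.val : W → X) ⁻¹' T) ?_ ?_
    · refine (NoetherianSpace.finite_irreducibleComponents (α := W)).subset ?_
      rintro _ ⟨T, ⟨hT, -, ⟨z, hzT, hzW⟩⟩, rfl⟩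
      exact preimage_mem_irreducibleComponents hT hWo.isOpenEmbedding_subtypeVal
        ⟨z, hzT, ⟨⟨z, hzW⟩, rfl⟩⟩
    · rintro T ⟨hT, -, ⟨z, hzT, hzW⟩⟩ T' ⟨hT', -⟩ he
      by_contra hne
      exact Set.disjoint_left.mp (h hT hT' hne) hzT
        (((Set.ext_iff.mp he) ⟨z, hzW⟩).mp hzT)
  refine ⟨W ∩ (⋃₀ S)ᶜ, ?_, ?_, hxW, ?_⟩
  · rintro z ⟨hzW, hz⟩
    have hu : z ∈ ⋃₀ irreducibleComponents X := by rw [sUnion_irreducibleComponents]; trivial
    obtain ⟨T, hT, hzT⟩ := hu
    by_cases he : T = Z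
    · exact he ▸ hzT
    · exact absurd ⟨T, ⟨hT, he, z, hzT, hzW⟩, hzT⟩ hz
  · refine hWo.inter (isOpen_compl_iff.mpr ?_)
    rw [Set.sUnion_eq_biUnion]
    exact hS.isClosed_biUnion fun T hT => isClosed_of_mem_irreducibleComponents T hT.1
  · rintro ⟨T, ⟨hT, hne, -⟩, hxT⟩
    exact Set.disjoint_left.mp (h hT hZ hne) hxT hx

lemma irreducibleComponents_tfae (hX : ∀ x : X, ∃ U ∈ 𝓝 x, NoetherianSpace U) :
    List.TFAE [∀ Z ∈ irreducibleComponents X, IsOpen Z,
      irreducibleComponents X = Set.range (connectedComponent : X → Set X),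
      ∀ x : X, IsIrreducible (connectedComponent x),
      (irreducibleComponents X).PairwiseDisjoint id] := by
  tfae_have 1 → 2 := by
    intro h
    have key : ∀ Z ∈ irreducibleComponents X, ∀ x ∈ Z, connectedComponent x = Z := fun Z hZ x hx =>
      subset_antisymm (IsClopen.connectedComponent_subset
        ⟨isClosed_of_mem_irreducibleComponents Z hZ, h Z hZ⟩ hx)
        (hZ.1.isPreirreducible.isPreconnected.subset_connectedComponent hx)
    ext Z
    constructor
    · intro hZ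
      obtain ⟨x, hx⟩ := hZ.1.nonempty
      exact ⟨x, key Z hZ x hx⟩
    · rintro ⟨x, rfl⟩
      rw [key _ (irreducibleComponent_mem_irreducibleComponents x) x mem_irreducibleComponent]
      exact irreducibleComponent_mem_irreducibleComponents x
  tfae_have 2 → 3 := by
    intro h x
    have : connectedComponent x ∈ irreducibleComponents X := h.symm ▸ Set.mem_range_self x
    exact this.1
  tfae_have 3 → 4 := by
    intro h Z hZ Z' hZ' hne
    refine Set.disjoint_left.mpr fun x hx hx' => hne ?_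
    have key : ∀ W ∈ irreducibleComponents X, x ∈ W → W = connectedComponent x := fun W hW hxW =>
      have s := hW.1.isPreirreducible.isPreconnected.subset_connectedComponent hxW
      subset_antisymm s (hW.2 (h x) s)
    exact (key Z hZ hx).trans (key Z' hZ' hx').symm
  tfae_have 4 → 1 := fun h Z hZ => isOpen_of_pairwiseDisjoint hX h hZ
  tfae_finish

end Groth.PropsBasic2
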