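import Mathlib.AlgebraicGeometry.Noetherian
import Mathlib.AlgebraicGeometry.IdealSheaf.Basic
import Mathlib.RingTheory.Noetherian.Nilpotent

/-! Ideal sheaves on Noetherian schemes. -/

universe u

open AlgebraicGeometry TopologicalSpace

namespace Groth.PropsBasic2

variable (X : Scheme.{u})

lemma exists_finite_affine_cover [CompactSpace X] :
    ∃ s : Finset X.affineOpens, (⨆ U : s, (U.1 : X.Opens)) = ⊤ := by
  obtain ⟨s, hs⟩ := isCompact_univ.elim_finite_subcover (fun U : X.affineOpens => ((U : X.Opens) : Set X))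
    (fun U => U.1.2) fun x _ => by
      obtain ⟨_, ⟨U, hU, rfl⟩, hxU, -⟩ :=
        X.isBasis_affineOpens.exists_subset_of_mem_open (Set.mem_univ x) isOpen_univ
      exact Set.mem_iUnion.mpr ⟨⟨U, hU⟩, hxU⟩
  refine ⟨s, eq_top_iff.mpr fun x _ => ?_⟩
  obtain ⟨U, hU, hxU⟩ := Set.mem_iUnion₂.mp (hs (Set.mem_univ x))
  exact Opens.mem_iSup.mpr ⟨⟨U, hU⟩, hxU⟩

lemma isNilpotent_nilradical [IsNoetherian X] : IsNilpotent X.nilradical := by
  obtain ⟨s, hs⟩ := exists_finite_affine_cover X
  have hn : ∀ U : X.affineOpens, ∃ n : ℕ, X.nilradical.ideal U ^ n = ⊥ := fun U => by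
    have := IsLocallyNoetherian.component_noetherian (X := X) U
    obtain ⟨n, hn⟩ := IsNoetherianRing.isNilpotent_nilradical Γ(X, U.1)
    exact ⟨n, hn⟩
  choose n hn using hn
  refine ⟨s.sup n, ?_⟩
  rw [Scheme.IdealSheafData.zero_eq_bot]
  apply Scheme.IdealSheafData.ext_of_iSup_eq_top (fun U : s => U.1) hs
  intro U
  rw [Scheme.IdealSheafData.ideal_pow]
  exact le_bot_iff.mp ((Ideal.pow_le_pow_right (Finset.le_sup U.2)).trans (hn U.1).le)

lemma wellFoundedGT_idealSheafData [IsNoetherian X] : WellFoundedGT X.IdealSheafData := by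
  obtain ⟨s, hs⟩ := exists_finite_affine_cover X
  have : ∀ U : s, IsNoetherianRing Γ(X, U.1.1) := fun U =>
    IsLocallyNoetherian.component_noetherian (X := X) U.1
  let φ : X.IdealSheafData → ((U : s) → Ideal Γ(X, U.1.1)) := fun I U => I.ideal U.1
  have hφ : StrictMono φ := fun I J h => lt_of_le_of_ne (fun U => h.le U.1) fun he =>
    h.ne (Scheme.IdealSheafData.ext_of_iSup_eq_top (fun U : s => U.1) hs fun U => congrFun he U)
  have : WellFoundedGT ((U : s) → Ideal Γ(X, U.1.1)) := by
    rw [wellFoundedGT_iff_monotone_chain_condition]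
    intro a
    have h : ∀ U : s, ∃ n, ∀ m, n ≤ m → a n U = a m U := fun U =>
      WellFoundedGT.monotone_chain_condition ⟨fun k => a k U, fun i j hij => a.monotone hij U⟩
    choose N hN using h
    refine ⟨Finset.univ.sup N, fun m hm => funext fun U => ?_⟩
    rw [← hN U _ (Finset.le_sup (Finset.mem_univ U)),
      ← hN U _ ((Finset.le_sup (Finset.mem_univ U)).trans hm)]
  exact hφ.wellFoundedGT

end Groth.PropsBasic2
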