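import Mathlib.AlgebraicGeometry.Modules.Tilde
import Mathlib.Algebra.Category.ModuleCat.ChangeOfRings

/-! Pullback of `tilde` along a morphism of affine schemes. -/

universe u

open CategoryTheory AlgebraicGeometry

namespace Groth.PropsBasic2.TildePullback

variable {R S : CommRingCat.{u}} (φ : R ⟶ S)

lemma smul_key (M : (Spec S).Modules) (r : R) (x : Γ(M, ⊤)) :
    (φ.hom r) • x = (Spec.map φ).appTop
      ((Spec R).presheaf.map (⊤ : (Spec R).Opens).leTop.op ((Scheme.ΓSpecIso R).inv r)) • x := by
  rw [Scheme.Modules.smul_Spec_def]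
  congr 1
  have h := congr($(Scheme.ΓSpecIso_inv_naturality φ) r)
  simp only [CommRingCat.comp_apply] at h
  rw [h, Subsingleton.elim (⊤ : (Spec S).Opens).leTop (𝟙 _),
    Subsingleton.elim (⊤ : (Spec R).Opens).leTop (𝟙 _)]
  simp

/-- Global sections commute with pushforward along a morphism of affine schemes. -/
noncomputable def app (M : (Spec S).Modules) :
    (ModuleCat.restrictScalars φ.hom).obj (moduleSpecΓFunctor.obj M) ≅
      moduleSpecΓFunctor.obj ((Scheme.Modules.pushforward (Spec.map φ)).obj M) :=
  (show ((ModuleCat.restrictScalars φ.hom).obj (moduleSpecΓFunctor.obj M) : ModuleCat R) ≃ₗ[R]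
      (moduleSpecΓFunctor.obj ((Scheme.Modules.pushforward (Spec.map φ)).obj M) : ModuleCat R) from
    { toFun := fun x => x
      invFun := fun x => x
      left_inv := fun _ => rfl
      right_inv := fun _ => rfl
      map_add' := fun _ _ => rfl
      map_smul' := fun r x => smul_key φ M r x }).toModuleIso

/-- The natural isomorphism `Γ ⋙ restrictScalars ≅ pushforward ⋙ Γ`. -/
noncomputable def natIso :
    moduleSpecΓFunctor (R := S) ⋙ ModuleCat.restrictScalars φ.hom ≅
      Scheme.Modules.pushforward (Spec.map φ) ⋙ moduleSpecΓFunctor (R := R) :=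
  NatIso.ofComponents (app φ) (fun _ => rfl)

/-- `(Spec φ)^* (~N) ≅ ~(S ⊗ N)`, naturally. -/
noncomputable def iso :
    tilde.functor R ⋙ Scheme.Modules.pullback (Spec.map φ) ≅
      ModuleCat.extendScalars φ.hom ⋙ tilde.functor S :=
  ((tilde.adjunction (R := R)).comp
      (Scheme.Modules.pullbackPushforwardAdjunction (Spec.map φ))).leftAdjointUniq
    (((ModuleCat.extendRestrictScalarsAdj φ.hom).comp (tilde.adjunction (R := S))).ofNatIsoRight
      (natIso φ))

end Groth.PropsBasic2.TildePullback
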