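import Mathlib.AlgebraicGeometry.Morphisms.Smooth
import Mathlib.RingTheory.RingHom.LocallyStandardSmooth

/-! A morphism is smooth near a point iff standard smooth on some affine neighbourhood. -/

universe u

open AlgebraicGeometry CategoryTheory

namespace Groth.PropsBasic2

variable {X S : Scheme.{u}}

lemma ι_appLE_bijective (W : X.Opens) (O : W.toScheme.Opens) (e) :
    Function.Bijective (W.ι.appLE (W.ι ''ᵁ O) O e) := by
  have : IsIso (W.ι.appLE (W.ι ''ᵁ O) O e) := by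
    rw [Scheme.Opens.ι_appLE]
    simp only [homOfLE_refl, op_id, CategoryTheory.Functor.map_id]
    exact IsIso.id Γ(X, W.ι ''ᵁ O)
  exact ConcreteCategory.bijective_of_isIso _

lemma smooth_nhd_iff (f : X ⟶ S) (x : X) (V : S.Opens) (hV : IsAffineOpen V) (hxV : f x ∈ V) :
    (∃ W : X.Opens, x ∈ W ∧ Smooth (W.ι ≫ f)) ↔
      ∃ (U : X.Opens) (_ : IsAffineOpen U) (_ : x ∈ U) (e : U ≤ f ⁻¹ᵁ V),
        (f.appLE V U e).hom.IsStandardSmooth := by
  constructor
  · rintro ⟨W, hxW, hs⟩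
    obtain ⟨U₀, hU₀, V₀, hV₀, hxV₀, e₀, h₀⟩ := Smooth.exists_isStandardSmooth (W.ι ≫ f) ⟨x, hxW⟩
    obtain ⟨r, s, hxs, e, h⟩ := exists_basicOpen_le_appLE_of_appLE_of_isAffine
      RingHom.isStandardSmooth_stableUnderCompositionWithLocalizationAway.right
      RingHom.isStandardSmooth_localizationPreserves.away
      (⟨x, hxW⟩ : W) ⟨V, hV⟩ ⟨U₀, hU₀⟩ ⟨V₀, hV₀⟩ ⟨V₀, hV₀⟩ hxV₀ hxV₀ e₀ h₀ hxV
    let O := W.toScheme.basicOpen s
    have hO : IsAffineOpen O := hV₀.basicOpen s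
    refine ⟨W.ι ''ᵁ O, hO.image_of_isOpenImmersion _, ⟨⟨x, hxW⟩, hxs, rfl⟩, ?_, ?_⟩
    · rintro _ ⟨z, hz, rfl⟩
      exact S.basicOpen_le r (e hz)
    · have e' : O ≤ (W.ι ≫ f) ⁻¹ᵁ V := e.trans ((W.ι ≫ f).preimage_mono (S.basicOpen_le r))
      have h1 : ((W.ι ≫ f).appLE V O e').hom.IsStandardSmooth := by
        rw [← Scheme.Hom.map_appLE (W.ι ≫ f) e (homOfLE (S.basicOpen_le r)).op]
        have := hV.isLocalization_basicOpen r
        exact RingHom.isStandardSmooth_stableUnderCompositionWithLocalizationAway.left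
          (S.basicOpen r |> fun U => Γ(S, U)) r _ h
      rw [← Scheme.Hom.appLE_comp_appLE W.ι f V (W.ι ''ᵁ O) O
        (by rintro _ ⟨z, hz, rfl⟩; exact e' hz) (W.ι.preimage_image_eq O).ge] at h1
      have : IsIso (W.ι.appLE (W.ι ''ᵁ O) O (W.ι.preimage_image_eq O).ge) :=
        (ConcreteCategory.isIso_iff_bijective _).mpr (ι_appLE_bijective W O _)
      rwa [CommRingCat.hom_comp, RingHom.isStandardSmooth_respectsIso.cancel_right_isIso] at h1
  · rintro ⟨U, hU, hxU, e, h⟩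
    have : IsAffine U := hU
    have : IsAffine V := hV
    refine ⟨U, hxU, ?_⟩
    have : Smooth (f.resLE V U e) := by
      rw [HasRingHomProperty.iff_of_isAffine (P := @Smooth)]
      have h2 : (f.resLE V U e).appTop = V.topIso.hom ≫ f.appLE V U e ≫ U.topIso.inv :=
        Scheme.Hom.resLE_app_top f e
      rw [h2]
      rw [CommRingCat.hom_comp, RingHom.Smooth.respectsIso.cancel_left_isIso, CommRingCat.hom_comp,
        RingHom.Smooth.respectsIso.cancel_right_isIso]
      exact h.smooth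
    rw [← Scheme.Hom.resLE_comp_ι f e]
    infer_instance

end Groth.PropsBasic2
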