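import Mathlib.AlgebraicGeometry.Modules.Tilde
import Mathlib.CategoryTheory.Abelian.Exact
import Mathlib.Algebra.Homology.ShortComplex.ExactFunctor
import Mathlib.RingTheory.Localization.Module

/-! The tilde functor is exact. -/

universe u

open AlgebraicGeometry CategoryTheory Limits

namespace Groth.PropsBasic2

variable (R : CommRingCat.{u})

set_option backward.isDefEq.respectTransparency.types false in
lemma tilde_map_app_injective {M N : ModuleCat.{u} R} (f : M ⟶ N) (hf : Function.Injective f)
    (U : (Spec R).Opens) : Function.Injective ((tilde.map f).app U) := by
  intro a b hab
  refine Subtype.ext (funext fun y => ?_)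
  exact LocalizedModule.map_injective y.1.asIdeal.primeCompl f.hom hf
    (congrFun (congrArg Subtype.val hab) y)

instance : (tilde.functor R).PreservesMonomorphisms where
  preserves {M N} f hf := by
    apply (Scheme.Modules.toPresheaf (Spec R)).mono_of_mono_map
    have : ∀ U, Mono (((Scheme.Modules.toPresheaf (Spec R)).map ((tilde.functor R).map f)).app U) :=
      fun U => (AddCommGrpCat.mono_iff_injective _).mpr
        (tilde_map_app_injective R f ((ModuleCat.mono_iff_injective f).mp hf) U.unop)
    exact NatTrans.mono_of_mono_app _

lemma preservesFiniteLimits_tilde : PreservesFiniteLimits (tilde.functor R) := by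
  have : PreservesColimits (tilde.functor R) := (tilde.adjunction (R := R)).leftAdjoint_preservesColimits
  have : (tilde.functor R).PreservesHomology :=
    Functor.preservesHomology_of_preservesMonos_and_cokernels _
  exact Functor.preservesFiniteLimits_of_preservesHomology _

lemma preservesFiniteColimits_tilde : PreservesFiniteColimits (tilde.functor R) := by
  have : PreservesColimits (tilde.functor R) := (tilde.adjunction (R := R)).leftAdjoint_preservesColimits
  infer_instance

end Groth.PropsBasic2
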