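import Groth.Agent.PropsBasic2.Spread
import Mathlib.AlgebraicGeometry.Morphisms.ClosedImmersion

/-! Surjective stalk map, locally of finite type: locally a closed immersion. -/

universe u

open CategoryTheory AlgebraicGeometry TopologicalSpace

namespace Groth.PropsBasic2.Spread

variable {X Y : Scheme.{u}}

lemma isClosedImmersion_resLE (f : X ⟶ Y) {V : Y.Opens} (hV : IsAffineOpen V) {U : X.Opens}
    (hU : IsAffineOpen U) (e : U ≤ f ⁻¹ᵁ V) (h : Function.Surjective (f.appLE V U e)) :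
    IsClosedImmersion (f.resLE V U e) := by
  have : IsAffine V := hV
  have : IsAffine U := hU
  refine IsClosedImmersion.of_surjective_of_isAffine _ ?_
  simp only [Scheme.Hom.appTop, Scheme.Hom.app_eq_appLE, Scheme.Hom.resLE_appLE]
  suffices ∀ (U₁ : X.Opens) (V₁ : Y.Opens) (eU : U = U₁) (eV : V = V₁) (e₁ : U₁ ≤ f ⁻¹ᵁ V₁),
      Function.Surjective (f.appLE V₁ U₁ e₁) from
    this _ _ (by simp) (by simp) _
  rintro _ _ rfl rfl _
  exact h

set_option backward.isDefEq.respectTransparency.types false in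
/-- If `f` is locally of finite type and surjective on the stalk at `x`, it is a closed immersion
of some affine neighbourhood of `x` into some open of the target. -/
lemma exists_closedImmersion_of_surjective (f : X ⟶ Y) [LocallyOfFiniteType f] (x : X)
    (hsurj : Function.Surjective (f.stalkMap x)) :
    ∃ (U : X.Opens) (V : Y.Opens) (e : U ≤ f ⁻¹ᵁ V), x ∈ U ∧ IsClosedImmersion (f.resLE V U e) := by
  obtain ⟨_, ⟨V : Y.Opens, hV, rfl⟩, hxV, -⟩ :=
    Y.isBasis_affineOpens.exists_subset_of_mem_open (Set.mem_univ (f x)) isOpen_univ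
  obtain ⟨_, ⟨U : X.Opens, hU, rfl⟩, hxU, e⟩ :=
    X.isBasis_affineOpens.exists_subset_of_mem_open (show x ∈ f ⁻¹ᵁ V from hxV) (f ⁻¹ᵁ V).2
  let φ := f.appLE V U e
  let := φ.hom.toAlgebra
  obtain ⟨s, hs⟩ := f.finiteType_appLE hV hU e
  choose z hz using fun b : Γ(X, U) ↦ hsurj (X.presheaf.germ U x hxU b)
  choose W hxW a ha using fun b : Γ(X, U) ↦ Y.presheaf.exists_germ_eq (z b)
  have hx₁ : f x ∈ s.inf W ⊓ V := by
    rw [← SetLike.mem_coe, Opens.coe_inf, Opens.coe_finset_inf]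
    exact ⟨by simpa using fun b _ ↦ hxW b, hxV⟩
  obtain ⟨_, ⟨V₀ : Y.Opens, hV₀, rfl⟩, hxV₀, hV₀le⟩ :=
    Y.isBasis_affineOpens.exists_subset_of_mem_open hx₁ (s.inf W ⊓ V).2
  have iV₀ : V₀ ≤ V := (show V₀ ≤ s.inf W ⊓ V from hV₀le).trans inf_le_right
  have iW (b) (hb : b ∈ s) : V₀ ≤ W b :=
    (show V₀ ≤ s.inf W ⊓ V from hV₀le).trans (inf_le_left.trans (Finset.inf_le hb))
  have hO : ∀ b : s, ∃ (O : X.Opens) (_ : x ∈ O) (hOU : O ≤ U) (hOV : O ≤ f ⁻¹ᵁ V₀),
      X.presheaf.map (homOfLE hOU).op b.1 =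
        f.appLE V₀ O hOV (Y.presheaf.map (homOfLE (iW b.1 b.2)).op (a b.1)) := by
    intro b
    have : X.presheaf.germ U x hxU b.1 = X.presheaf.germ (f ⁻¹ᵁ V₀) x hxV₀
        (f.app V₀ (Y.presheaf.map (homOfLE (iW b.1 b.2)).op (a b.1))) := by
      rw [← hz b.1, ← Scheme.Hom.germ_stalkMap_apply f V₀ x hxV₀, TopCat.Presheaf.germ_res_apply, ha]
    obtain ⟨O, hxO, i₁, i₂, h⟩ := X.presheaf.germ_eq x hxU hxV₀ _ _ this
    exact ⟨O, hxO, i₁.le, i₂.le, h⟩
  choose O hxO hOU hOV hOb using hO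
  have hx₂ : x ∈ s.attach.inf O ⊓ (U ⊓ f ⁻¹ᵁ V₀) := by
    rw [← SetLike.mem_coe, Opens.coe_inf, Opens.coe_finset_inf]
    exact ⟨by simpa using fun b hb ↦ hxO ⟨b, hb⟩, hxU, hxV₀⟩
  obtain ⟨g, hgle, hxg⟩ := hU.exists_basicOpen_le ⟨x, hx₂⟩ hxU
  let D := X.basicOpen g
  have iDU : D ≤ U := X.basicOpen_le g
  have iDV : D ≤ f ⁻¹ᵁ V₀ := hgle.trans (inf_le_right.trans inf_le_right)
  let ψ₀ := f.appLE V₀ D iDV
  -- everything coming from `Γ(X, U)` is in the range of `ψ₀`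
  have hrange : ∀ u : Γ(X, U), ∃ c, ψ₀ c = X.presheaf.map (homOfLE iDU).op u := by
    intro u
    have hu : u ∈ Algebra.adjoin Γ(Y, V) (s : Set Γ(X, U)) := hs ▸ Algebra.mem_top
    induction hu using Algebra.adjoin_induction with
    | mem b hb =>
      refine ⟨Y.presheaf.map (homOfLE (iW b hb)).op (a b), ?_⟩
      have hle : D ≤ O ⟨b, hb⟩ :=
        hgle.trans (inf_le_left.trans (Finset.inf_le (Finset.mem_attach _ _)))
      have := congr(X.presheaf.map (homOfLE hle).op $(hOb ⟨b, hb⟩))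
      rw [← CommRingCat.comp_apply, ← CommRingCat.comp_apply, ← X.presheaf.map_comp,
        Scheme.Hom.appLE_map] at this
      exact this.symm
    | algebraMap r =>
      refine ⟨Y.presheaf.map (homOfLE iV₀).op r, ?_⟩
      change _ = X.presheaf.map _ (f.appLE V U e r)
      rw [← CommRingCat.comp_apply, ← CommRingCat.comp_apply, Scheme.Hom.map_appLE,
        Scheme.Hom.appLE_map]
    | add u v _ _ hu hv =>
      obtain ⟨c, hc⟩ := hu; obtain ⟨d, hd⟩ := hv
      exact ⟨c + d, by rw [map_add, map_add, hc, hd]⟩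
    | mul u v _ _ hu hv =>
      obtain ⟨c, hc⟩ := hu; obtain ⟨d, hd⟩ := hv
      exact ⟨c * d, by rw [map_mul, map_mul, hc, hd]⟩
  obtain ⟨c, hc⟩ := hrange g
  let V' := Y.basicOpen c
  have hxV' : f x ∈ V' := by
    rw [Scheme.mem_basicOpen _ _ _ hxV₀]
    refine (isUnit_map_iff (f.stalkMap x).hom _).mp ?_
    change IsUnit (f.stalkMap x (Y.presheaf.germ V₀ (f x) hxV₀ c))
    rw [Scheme.Hom.germ_stalkMap_apply, ← TopCat.Presheaf.germ_res_apply _ (homOfLE iDV) x hxg]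
    change IsUnit (X.presheaf.germ D x hxg ((f.app V₀ ≫ X.presheaf.map _) c))
    have := congr(X.presheaf.germ D x hxg $hc)
    rw [TopCat.Presheaf.germ_res_apply] at this
    change X.presheaf.germ D x hxg ((f.app V₀ ≫ X.presheaf.map _) c) = _ at this
    rw [this]
    exact (Scheme.mem_basicOpen _ _ x hxU).mp hxg
  have iD' : D ≤ f ⁻¹ᵁ V' := by
    intro p hp
    change f p ∈ Y.basicOpen c
    rw [Scheme.mem_basicOpen _ _ (f p) (show f p ∈ V₀ from iDV hp)]
    have : IsUnit (X.presheaf.germ D p hp (ψ₀ c)) := by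
      rw [hc, TopCat.Presheaf.germ_res_apply]
      exact (Scheme.mem_basicOpen _ _ p (iDU hp)).mp hp
    refine (isUnit_map_iff (f.stalkMap p).hom _).mp ?_
    change IsUnit (f.stalkMap p (Y.presheaf.germ V₀ (f p) (iDV hp) c))
    rw [Scheme.Hom.germ_stalkMap_apply, ← TopCat.Presheaf.germ_res_apply _ (homOfLE iDV) p hp]
    exact this
  refine ⟨D, V', iD', hxg, isClosedImmersion_resLE f (hV₀.basicOpen c) (hU.basicOpen g) iD' ?_⟩
  intro y
  have := hU.isLocalization_basicOpen g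
  obtain ⟨u, ⟨_, n, rfl⟩, rfl⟩ := IsLocalization.exists_mk'_eq (.powers g) y
  obtain ⟨c', hc'⟩ := hrange u
  let r := Y.presheaf.map (homOfLE (Y.basicOpen_le c)).op
  have hunit : IsUnit (r c) := by
    convert! RingedSpace.isUnit_res_basicOpen _ c
  obtain ⟨w, hw⟩ := hunit
  refine ⟨r c' * ↑(w⁻¹ ^ n), ?_⟩
  rw [IsLocalization.eq_mk'_iff_mul_eq]
  have h1 : ∀ d, f.appLE V' D iD' (r d) = ψ₀ d := fun d ↦ by
    rw [← CommRingCat.comp_apply, Scheme.Hom.map_appLE]
  simp only [RingHom.algebraMap_toAlgebra, map_pow]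
  change f.appLE V' D iD' (r c' * ↑(w⁻¹ ^ n)) * (X.presheaf.map (homOfLE iDU).op g) ^ n =
    X.presheaf.map (homOfLE iDU).op u
  rw [← hc, ← hc', ← h1, ← h1, ← map_pow, ← map_mul, ← hw, mul_assoc, Units.val_pow_eq_pow_val,
    ← mul_pow, Units.inv_mul, one_pow, mul_one]

end Groth.PropsBasic2.Spread
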