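import Groth.Agent.PropsBasic2.Spread

/-! An isomorphism of local rings of schemes locally of finite presentation spreads out. -/

universe u

open CategoryTheory AlgebraicGeometry TopologicalSpace

namespace Groth.PropsBasic2.Spread

variable {X Y S : Scheme.{u}}

/-- Restrict `f : U ⟶ Y` to the preimage of `V`. -/
lemma exists_restr {U : X.Opens} (f : U.toScheme ⟶ Y) (V : Y.Opens) :
    ∃ (U' : X.Opens) (i : U' ≤ U) (a : U'.toScheme ⟶ V.toScheme),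
      a ≫ V.ι = X.homOfLE i ≫ f ∧ ∀ p (hp : p ∈ U), p ∈ U' ↔ f ⟨p, hp⟩ ∈ V := by
  let U' : X.Opens := U.ι ''ᵁ (f ⁻¹ᵁ V)
  have i : U' ≤ U := by rintro _ ⟨q, _, rfl⟩; exact q.2
  have hmem : ∀ p (hp : p ∈ U), p ∈ U' ↔ f ⟨p, hp⟩ ∈ V := by
    intro p hp
    constructor
    · rintro ⟨q, hq, rfl⟩; exact hq
    · exact fun h ↦ ⟨⟨p, hp⟩, h, rfl⟩
  have h : Set.range (X.homOfLE i ≫ f) ⊆ Set.range V.ι := by
    rintro _ ⟨q, rfl⟩
    rw [Scheme.Opens.range_ι]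
    have : X.homOfLE i q = ⟨q.1, i q.2⟩ := Subtype.ext (congrArg (fun m ↦ m.base q) (X.homOfLE_ι i))
    change f (X.homOfLE i q) ∈ V
    rw [this]
    exact (hmem _ _).mp q.2
  exact ⟨U', i, IsOpenImmersion.lift V.ι _ h, IsOpenImmersion.lift_fac _ _ _, hmem⟩

set_option backward.isDefEq.respectTransparency.types false in
/-- Uniqueness, for two morphisms on an open subscheme. -/
lemma unique_open (sY : Y ⟶ S) [LocallyOfFiniteType sY] {U : X.Opens} (f g : U.toScheme ⟶ Y)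
    (h : f ≫ sY = g ≫ sY) {x : X} (hx : x ∈ U)
    (e : U.fromSpecStalkOfMem x hx ≫ f = U.fromSpecStalkOfMem x hx ≫ g) :
    ∃ (U' : X.Opens) (i : U' ≤ U), x ∈ U' ∧ X.homOfLE i ≫ f = X.homOfLE i ≫ g := by
  simp only [Scheme.Opens.fromSpecStalkOfMem, Category.assoc] at e
  obtain ⟨W, hxW, hW⟩ := unique' sY f g h (x := ⟨x, hx⟩) ((cancel_epi _).mp e)
  have i : U.ι ''ᵁ W ≤ U := by rintro _ ⟨q, _, rfl⟩; exact q.2
  refine ⟨U.ι ''ᵁ W, i, ⟨⟨x, hx⟩, hxW, rfl⟩, ?_⟩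
  have : X.homOfLE i = (U.ι.isoImage W).inv ≫ W.ι := by
    rw [← cancel_mono U.ι, Category.assoc]; simp
  simp only [this, Category.assoc, hW]

lemma apply_of_fac {U : X.Opens} {x : X} (hx : x ∈ U) {y : Y} (f : U.toScheme ⟶ Y)
    (φ : Y.presheaf.stalk y ⟶ X.presheaf.stalk x) [IsIso φ]
    (h : Spec.map φ ≫ Y.fromSpecStalk y = U.fromSpecStalkOfMem x hx ≫ f) : f ⟨x, hx⟩ = y := by
  have := congr($h.symm (IsLocalRing.closedPoint _))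
  change f (U.fromSpecStalkOfMem x hx _) = Y.fromSpecStalk y (Spec.map φ _) at this
  have h1 : U.fromSpecStalkOfMem x hx (IsLocalRing.closedPoint _) = ⟨x, hx⟩ := by
    apply Subtype.ext
    change (U.fromSpecStalkOfMem x hx ≫ U.ι) _ = x
    rw [Scheme.Opens.fromSpecStalkOfMem_ι]
    exact Scheme.fromSpecStalk_closedPoint
  have h2 : Spec.map φ (IsLocalRing.closedPoint _) = IsLocalRing.closedPoint _ :=
    IsLocalRing.comap_closedPoint φ.hom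
  rwa [h1, h2, Scheme.fromSpecStalk_closedPoint] at this

lemma exist_iso (sX : X ⟶ S) (sY : Y ⟶ S)
    [LocallyOfFinitePresentation sX] [LocallyOfFinitePresentation sY]
    {x : X} {y : Y} (e : sX x = sY y)
    (φ : Y.presheaf.stalk y ⟶ X.presheaf.stalk x) [IsIso φ]
    (h : sY.stalkMap y ≫ φ =
      S.presheaf.stalkSpecializes (Inseparable.of_eq e).specializes ≫ sX.stalkMap x) :
    ∃ (U : X.Opens) (hxU : x ∈ U) (V : Y.Opens) (f : U.toScheme ⟶ V.toScheme), IsIso f ∧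
      Spec.map φ ≫ Y.fromSpecStalk y = U.fromSpecStalkOfMem x hxU ≫ f ≫ V.ι ∧
        f ≫ V.ι ≫ sY = U.ι ≫ sX := by
  obtain ⟨U₀, hx₀, f₀, hf₀, hf₀S⟩ := exist sX sY e φ h
  have h' : sX.stalkMap x ≫ inv φ =
      S.presheaf.stalkSpecializes (Inseparable.of_eq e.symm).specializes ≫ sY.stalkMap y := by
    rw [IsIso.comp_inv_eq, Category.assoc, h, TopCat.Presheaf.stalkSpecializes_comp_assoc,
      TopCat.Presheaf.stalkSpecializes_refl, Category.id_comp]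
  obtain ⟨V₀, hy₀, g₀, hg₀, hg₀S⟩ := exist sY sX e.symm (inv φ) h'
  have hfx := apply_of_fac hx₀ f₀ φ hf₀
  have hgy := apply_of_fac hy₀ g₀ (inv φ) hg₀
  obtain ⟨U₁, iU₁, a, ha, hU₁⟩ := exists_restr f₀ V₀
  obtain ⟨V₁, iV₁, b, hb, hV₁⟩ := exists_restr g₀ U₀
  have hx₁ : x ∈ U₁ := (hU₁ x hx₀).mpr (hfx ▸ hy₀)
  have hy₁ : y ∈ V₁ := (hV₁ y hy₀).mpr (hgy ▸ hx₀)
  obtain ⟨U₂, iU₂, hx₂, hU₂⟩ := unique_open sX (a ≫ g₀) U₁.ι (x := x)
    (by rw [Category.assoc, hg₀S, reassoc_of% ha, hf₀S, Scheme.homOfLE_ι_assoc]) hx₁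
    (by
      have : U₁.fromSpecStalkOfMem x hx₁ ≫ a = Spec.map φ ≫ V₀.fromSpecStalkOfMem y hy₀ := by
        rw [← cancel_mono V₀.ι, Category.assoc, ha, Category.assoc,
          Scheme.Opens.fromSpecStalkOfMem_ι, hf₀, ← Category.assoc]
        congr 1
        rw [← cancel_mono U₀.ι]; simp
      rw [reassoc_of% this, ← hg₀, ← Spec.map_comp_assoc, IsIso.inv_hom_id, Spec.map_id,
        Category.id_comp, Scheme.Opens.fromSpecStalkOfMem_ι])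
  obtain ⟨V₂, iV₂, hy₂, hV₂⟩ := unique_open sY (b ≫ f₀) V₁.ι (x := y)
    (by rw [Category.assoc, hf₀S, reassoc_of% hb, hg₀S, Scheme.homOfLE_ι_assoc]) hy₁
    (by
      have : V₁.fromSpecStalkOfMem y hy₁ ≫ b = Spec.map (inv φ) ≫ U₀.fromSpecStalkOfMem x hx₀ := by
        rw [← cancel_mono U₀.ι, Category.assoc, hb, Category.assoc,
          Scheme.Opens.fromSpecStalkOfMem_ι, hg₀, ← Category.assoc]
        congr 1
        rw [← cancel_mono V₀.ι]; simp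
      rw [reassoc_of% this, ← hf₀, ← Spec.map_comp_assoc, IsIso.hom_inv_id, Spec.map_id,
        Category.id_comp, Scheme.Opens.fromSpecStalkOfMem_ι])
  obtain ⟨U₃, iU₃, a₃', ha₃', hU₃⟩ := exists_restr (X.homOfLE (iU₂.trans iU₁) ≫ f₀) V₂
  obtain ⟨V₃, iV₃, b₃, hb₃, hV₃⟩ := exists_restr (Y.homOfLE (iV₂.trans iV₁) ≫ g₀) U₃
  have hUa (p : U₃.toScheme) : (a₃' ≫ V₂.ι) p ∈ V₃ := by
    have hq : (a₃' ≫ V₂.ι) p ∈ V₂ := (a₃' p).2
    refine (hV₃ _ hq).mpr ?_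
    have : a₃' ≫ Y.homOfLE (iV₂.trans iV₁) ≫ g₀ = U₃.ι := by
      have h1 : a₃' ≫ Y.homOfLE (iV₂.trans iV₁) = X.homOfLE (iU₃.trans iU₂) ≫ a := by
        rw [← cancel_mono V₀.ι]; simp [ha, ha₃']
      rw [reassoc_of% h1, ← X.homOfLE_homOfLE iU₃ iU₂, Category.assoc, hU₂,
        Scheme.homOfLE_ι, Scheme.homOfLE_ι]
    change (a₃' ≫ Y.homOfLE (iV₂.trans iV₁) ≫ g₀) p ∈ U₃
    rw [this]
    exact p.2
  have hr : Set.range (a₃' ≫ V₂.ι) ⊆ Set.range V₃.ι := by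
    rintro _ ⟨p, rfl⟩; rw [Scheme.Opens.range_ι]; exact hUa p
  let a₃ : U₃.toScheme ⟶ V₃.toScheme := IsOpenImmersion.lift V₃.ι _ hr
  have ha₃ : a₃ ≫ V₃.ι = X.homOfLE (iU₃.trans (iU₂.trans iU₁)) ≫ f₀ := by
    rw [show a₃ ≫ V₃.ι = a₃' ≫ V₂.ι from IsOpenImmersion.lift_fac _ _ _, ha₃']; simp
  have hx₃ : x ∈ U₃ := by
    refine (hU₃ x hx₂).mpr ?_
    change f₀ (X.homOfLE _ ⟨x, hx₂⟩) ∈ V₂
    rw [show X.homOfLE (iU₂.trans iU₁) ⟨x, hx₂⟩ = (⟨x, hx₀⟩ : U₀) from Subtype.ext (congrArg (fun m ↦ m.base (⟨x, hx₂⟩ : U₂)) (X.homOfLE_ι (iU₂.trans iU₁))), hfx]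
    exact hy₂
  refine ⟨U₃, hx₃, V₃, a₃, ⟨b₃, ?_, ?_⟩, ?_, ?_⟩
  · rw [← cancel_mono U₃.ι, Category.assoc, hb₃, Category.id_comp]
    have h1 : a₃ ≫ Y.homOfLE (iV₃.trans (iV₂.trans iV₁)) = X.homOfLE (iU₃.trans iU₂) ≫ a := by
      rw [← cancel_mono V₀.ι]; simp [ha, ha₃]
    rw [← Category.assoc (Y.homOfLE _), Scheme.homOfLE_homOfLE, reassoc_of% h1,
      ← X.homOfLE_homOfLE iU₃ iU₂, Category.assoc, hU₂, Scheme.homOfLE_ι, Scheme.homOfLE_ι]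
  · rw [← cancel_mono V₃.ι, Category.assoc, ha₃, Category.id_comp]
    have h1 : b₃ ≫ X.homOfLE (iU₃.trans (iU₂.trans iU₁)) = Y.homOfLE (iV₃.trans iV₂) ≫ b := by
      rw [← cancel_mono U₀.ι]; simp [hb, hb₃]
    rw [reassoc_of% h1, ← Y.homOfLE_homOfLE iV₃ iV₂, Category.assoc, hV₂, Scheme.homOfLE_ι,
      Scheme.homOfLE_ι]
  · rw [ha₃, hf₀, ← Category.assoc]
    congr 1
    rw [← cancel_mono U₀.ι]; simp
  · rw [reassoc_of% ha₃, hf₀S, Scheme.homOfLE_ι_assoc]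

end Groth.PropsBasic2.Spread
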