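import Mathlib.AlgebraicGeometry.AffineScheme
import Mathlib.RingTheory.Ideal.Maps
import Mathlib.RingTheory.Localization.AtPrime.Basic
import Mathlib.RingTheory.Spectrum.Prime.RingHom

/-! Open morphisms are generalizing. -/

universe u

open AlgebraicGeometry CategoryTheory

namespace Groth.PropsBasic2

lemma exists_le_comap_eq_of_forall_mem_image {A B : Type*} [CommRing A] [CommRing B] (φ : A →+* B)
    (p : Ideal B) [p.IsPrime] (q : Ideal A) [q.IsPrime]
    (h : ∀ g : B, g ∉ p → ∃ P : Ideal B, P.IsPrime ∧ g ∉ P ∧ P.comap φ = q) :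
    ∃ P : Ideal B, P.IsPrime ∧ P ≤ p ∧ P.comap φ = q := by
  let L := Localization.AtPrime p
  have hc : (q.map ((algebraMap B L).comp φ)).comap ((algebraMap B L).comp φ) = q := by
    refine le_antisymm (fun a ha => ?_) Ideal.le_comap_map
    rw [Ideal.mem_comap, ← Ideal.map_map, RingHom.comp_apply,
      IsLocalization.algebraMap_mem_map_algebraMap_iff p.primeCompl L] at ha
    obtain ⟨g, hg, hga⟩ := ha
    obtain ⟨P, hP, hgP, rfl⟩ := h g hg
    have : g * φ a ∈ P := (Ideal.map_comap_le) hga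
    exact (hP.mem_or_mem this).resolve_left hgP
  obtain ⟨P', hP', hPe⟩ := (Ideal.comap_map_eq_self_iff_of_isPrime q).mp hc
  refine ⟨P'.comap (algebraMap B L), inferInstance, ?_, by rw [Ideal.comap_comap, hPe]⟩
  intro b hb
  by_contra hbp
  exact hP'.ne_top (Ideal.eq_top_of_isUnit_mem _ hb (IsLocalization.map_units L (⟨b, hbp⟩ : p.primeCompl)))

lemma generalizingMap_of_isOpenMap {X Y : Scheme.{u}} (f : X ⟶ Y) (hf : IsOpenMap f.base) :
    GeneralizingMap f.base := by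
  intro x y hy
  obtain ⟨_, ⟨V, hV, rfl⟩, hxV, -⟩ :=
    Y.isBasis_affineOpens.exists_subset_of_mem_open (Set.mem_univ (f x)) isOpen_univ
  obtain ⟨_, ⟨U, hU, rfl⟩, hxU, hUV⟩ :=
    X.isBasis_affineOpens.exists_subset_of_mem_open (show x ∈ f ⁻¹ᵁ V from hxV) (f ⁻¹ᵁ V).2
  have hcomm : ∀ z, hV.fromSpec (PrimeSpectrum.comap (f.appLE V U hUV).hom z) = f (hU.fromSpec z) :=
    fun z => congrArg (fun r => r.base z) (IsAffineOpen.SpecMap_appLE_fromSpec f hV hU hUV)
  obtain ⟨p, hp⟩ : x ∈ Set.range hU.fromSpec := by rw [hU.range_fromSpec]; exact hxU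
  obtain ⟨q, hq⟩ : y ∈ Set.range hV.fromSpec := by
    rw [hV.range_fromSpec]; exact hy.mem_open V.2 hxV
  obtain ⟨P, hP, hPp, hPq⟩ := exists_le_comap_eq_of_forall_mem_image (f.appLE V U hUV).hom
    p.asIdeal q.asIdeal fun g hg => by
      have ho : IsOpen (f '' (hU.fromSpec '' (PrimeSpectrum.basicOpen g : Set (PrimeSpectrum Γ(X, U))))) :=
        hf _ (hU.fromSpec.isOpenEmbedding.isOpenMap _ (PrimeSpectrum.basicOpen g).2)
      obtain ⟨_, ⟨z, hz, rfl⟩, hzy⟩ :=
        hy.mem_open ho ⟨x, ⟨p, hg, hp⟩, rfl⟩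
      refine ⟨z.asIdeal, z.2, hz, ?_⟩
      have : PrimeSpectrum.comap (f.appLE V U hUV).hom z = q :=
        hV.fromSpec.isOpenEmbedding.injective ((hcomm z).trans (hzy.trans hq.symm))
      exact congrArg PrimeSpectrum.asIdeal this
  refine ⟨hU.fromSpec ⟨P, hP⟩, ?_, ?_⟩
  · rw [← hp]
    exact ((PrimeSpectrum.le_iff_specializes ⟨P, hP⟩ p).mp hPp).map hU.fromSpec.continuous
  · rw [← hq]
    exact (hcomm ⟨P, hP⟩).symm.trans (congrArg hV.fromSpec (PrimeSpectrum.ext hPq))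

end Groth.PropsBasic2
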