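import Mathlib.AlgebraicGeometry.Artinian
import Mathlib.AlgebraicGeometry.Morphisms.QuasiFinite
import Mathlib.AlgebraicGeometry.Limits

/-! Schemes with discrete underlying space. -/

universe u

open AlgebraicGeometry CategoryTheory TopologicalSpace Opposite

namespace Groth.PropsBasic2

variable (X : Scheme.{u})

lemma isAffine_of_finite_discrete [Finite X] [DiscreteTopology X] : IsAffine X := by
  have h : ∀ x : X, IsAffineOpen (⟨{x}, isOpen_discrete _⟩ : X.Opens) := by
    intro x
    obtain ⟨_, ⟨U, hU, rfl⟩, hxU, hUx⟩ :=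
      X.isBasis_affineOpens.exists_subset_of_mem_open (Set.mem_singleton x) (isOpen_discrete {x})
    have : U = (⟨{x}, isOpen_discrete _⟩ : X.Opens) :=
      Opens.ext (subset_antisymm hUx (Set.singleton_subset_iff.mpr hxU))
    exact this ▸ hU
  have h2 : IsAffineOpen (⊤ : X.Opens) := by
    have hd : Pairwise (Function.onFun Disjoint fun x : X => (⟨{x}, isOpen_discrete _⟩ : X.Opens)) := by
      intro x y hxy
      show Disjoint (⟨{x}, _⟩ : X.Opens) ⟨{y}, _⟩
      rw [disjoint_iff, Opens.ext_iff]
      simpa [Set.singleton_inter_eq_empty, Set.inter_comm] using hxy.symm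
    convert! IsAffineOpen.iSup_of_disjoint h hd
    ext x; simp
  have : IsAffine (⊤ : X.Opens) := h2
  exact isAffine_of_isAffineHom X.topIso.inv

lemma germ_bijective_singleton [DiscreteTopology X] (x : X) :
    Function.Bijective (X.presheaf.germ ⟨{x}, isOpen_discrete _⟩ x rfl) := by
  constructor
  · intro a b hab
    obtain ⟨W, hW, iU, iV, e⟩ := X.presheaf.germ_eq x rfl rfl a b hab
    obtain rfl : W = ⟨{x}, isOpen_discrete _⟩ :=
      le_antisymm iU.le fun z hz => (Set.mem_singleton_iff.mp hz).symm ▸ hW
    obtain rfl : iU = 𝟙 _ := Subsingleton.elim _ _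
    obtain rfl : iV = 𝟙 _ := Subsingleton.elim _ _
    simpa using e
  · intro t
    obtain ⟨U, hU, s, rfl⟩ := X.presheaf.exists_germ_eq t
    exact ⟨X.presheaf.map (homOfLE (fun z hz => (Set.mem_singleton_iff.mp hz).symm ▸ hU)).op s,
      X.presheaf.germ_res_apply _ _ _ s⟩

lemma bijective_pi_germ [DiscreteTopology X] :
    Function.Bijective
      (RingHom.pi fun x : X => (X.presheaf.germ ⊤ x (trivial : x ∈ (⊤ : X.Opens))).hom) := by
  constructor
  · intro a b hab
    exact TopCat.Presheaf.section_ext X.sheaf ⊤ a b fun x _ => congrFun hab x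
  · intro t
    choose s hs using fun x => (germ_bijective_singleton X x).2 (t x)
    obtain ⟨g, hg, -⟩ := X.sheaf.existsUnique_gluing' (fun x : X => (⟨{x}, isOpen_discrete _⟩ : X.Opens))
      ⊤ (fun x => homOfLE le_top) (fun x _ => Opens.mem_iSup.mpr ⟨x, rfl⟩) s (by
        intro x y
        by_cases hxy : x = y
        · subst hxy; rfl
        · refine TopCat.Presheaf.section_ext X.sheaf _ _ _ ?_
          rintro z ⟨rfl, hzy⟩
          exact absurd hzy hxy)
    refine ⟨g, funext fun x => ?_⟩
    rw [← hs x, ← hg x]
    exact (X.presheaf.germ_res_apply _ _ _ g).symm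

lemma noetherian_t1 [IsNoetherian X] [T1Space X] :
    IsAffine X ∧ IsArtinianRing Γ(X, ⊤) ∧ Finite X ∧
      Nonempty (Γ(X, ⊤) ≃+* ((x : X) → X.presheaf.stalk x)) := by
  have hfin : Finite X := by
    have h1 := NoetherianSpace.finite_irreducibleComponents (α := X)
    refine Set.finite_univ_iff.mp (Set.Finite.subset (h1.biUnion fun s hs => ?_)
      (?_ : Set.univ ⊆ ⋃ s ∈ irreducibleComponents (X : Type u), s))
    · obtain ⟨z, hz⟩ := QuasiSober.sober hs.1 (isClosed_of_mem_irreducibleComponents s hs)
      rw [← hz.def, closure_singleton]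
      exact Set.finite_singleton z
    · rw [← Set.sUnion_eq_biUnion, sUnion_irreducibleComponents]
  have : DiscreteTopology X := inferInstance
  have : IsLocallyArtinian X :=
    IsLocallyArtinian.iff_isLocallyNoetherian_and_discreteTopology.mpr ⟨inferInstance, this⟩
  have := isAffine_of_finite_discrete X
  exact ⟨this, inferInstance, hfin, ⟨RingEquiv.ofBijective _ (bijective_pi_germ X)⟩⟩

lemma finite_carrier (K : Type u) [Field K] (f : X ⟶ Spec (CommRingCat.of K))
    [LocallyOfFiniteType f] (hX : Finite X) : IsAffine X ∧ f.appTop.hom.Finite := by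
  have := LocallyOfFiniteType.jacobsonSpace f
  have : DiscreteTopology X := inferInstance
  have := isAffine_of_finite_discrete X
  have : IsLocallyNoetherian X := LocallyOfFiniteType.isLocallyNoetherian f
  have : IsLocallyArtinian X :=
    IsLocallyArtinian.iff_isLocallyNoetherian_and_discreteTopology.mpr ⟨inferInstance, inferInstance⟩
  have : LocallyQuasiFinite f := by
    have : QuasiCompact f := inferInstance
    exact LocallyQuasiFinite.of_finite_preimage_singleton f fun y => Set.toFinite _
  have := IsFinite.of_locallyQuasiFinite f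
  exact ⟨inferInstance, f.finite_appTop⟩

end Groth.PropsBasic2
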