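import Mathlib.AlgebraicGeometry.Noetherian
import Mathlib.AlgebraicGeometry.FunctionField
import Groth.Agent.PropsBasic2.LocNoeth
import Groth.Agent.PropsBasic2.SchTop

/-! Integrality of locally Noetherian schemes. -/

universe u

open AlgebraicGeometry TopologicalSpace

namespace Groth.PropsBasic2

lemma noetherian_nhds (X : Scheme.{u}) [IsLocallyNoetherian X] (x : X) :
    ∃ U ∈ nhds x, NoetherianSpace U := by
  obtain ⟨_, ⟨U, hU, rfl⟩, hxU, -⟩ :=
    X.isBasis_affineOpens.exists_subset_of_mem_open (Set.mem_univ x) isOpen_univ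
  have := IsLocallyNoetherian.component_noetherian (X := X) ⟨U, hU⟩
  exact ⟨U, U.2.mem_nhds hxU, noetherianSpace_of_isAffineOpen U hU⟩

lemma irreducible_and_integral_iff (X : Scheme.{u}) [IsLocallyNoetherian X] :
    (IrreducibleSpace X ↔ ConnectedSpace X ∧ ∀ x : X, (nilradical (X.presheaf.stalk x)).IsPrime) ∧
      (IsIntegral X ↔ ConnectedSpace X ∧ ∀ x : X, IsDomain (X.presheaf.stalk x)) := by
  have h1 : IrreducibleSpace X ↔
      ConnectedSpace X ∧ ∀ x : X, (nilradical (X.presheaf.stalk x)).IsPrime := by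
    rw [← pairwiseDisjoint_irreducibleComponents_iff]
    constructor
    · intro h
      refine ⟨inferInstance, ?_⟩
      rw [irreducibleComponents_eq_singleton]
      exact Set.pairwiseDisjoint_singleton _ _
    · rintro ⟨hc, hd⟩
      have h3 := ((irreducibleComponents_tfae (noetherian_nhds X)).out 3 2).mp hd
      obtain ⟨x⟩ := hc.toNonempty
      rw [irreducibleSpace_def, Set.top_eq_univ, ← PreconnectedSpace.connectedComponent_eq_univ x]
      exact h3 x
  refine ⟨h1, ⟨fun _ => ⟨(h1.mp inferInstance).1, fun x => inferInstance⟩, ?_⟩⟩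
  rintro ⟨hc, hd⟩
  have : IrreducibleSpace X := h1.mpr ⟨hc, fun x => by
    have := hd x
    rw [nilradical_eq_zero]
    exact Ideal.isPrime_bot⟩
  have : IsReduced X := by
    have := hd
    exact isReduced_of_isReduced_stalk X
  exact isIntegral_of_irreducibleSpace_of_isReduced X

end Groth.PropsBasic2
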