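import Mathlib.AlgebraicGeometry.Morphisms.QuasiCompact
import Groth.Agent.PropsBasic2.LocNoethScheme

/-! Quasi-compactness with locally Noetherian spaces. -/

universe u

open AlgebraicGeometry CategoryTheory TopologicalSpace

namespace Groth.PropsBasic2

lemma isCompact_of_subset_compact {α : Type*} [TopologicalSpace α]
    (hα : ∀ x : α, ∃ U ∈ nhds x, NoetherianSpace U) {K s : Set α} (hK : IsCompact K) (hs : s ⊆ K) :
    IsCompact s := by
  choose U hU hn using hα
  obtain ⟨t, -, ht⟩ := hK.elim_nhds_subcover U (fun x _ => hU x)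
  have : ∀ x : t, NoetherianSpace (U x.1) := fun x => hn x.1
  have hN : NoetherianSpace (⋃ x : t, U x.1 : Set α) := NoetherianSpace.iUnion _
  have hsub : s ⊆ (⋃ x : t, U x.1 : Set α) := fun a ha => by
    obtain ⟨x, hx, hax⟩ := Set.mem_iUnion₂.mp (ht (hs ha))
    exact Set.mem_iUnion.mpr ⟨⟨x, hx⟩, hax⟩
  rw [← Set.image_preimage_eq_of_subset (f := (Subtype.val : (⋃ x : t, U x.1 : Set α) → α)) (s := s)
    (by rwa [Subtype.range_coe])]
  exact (NoetherianSpace.isCompact _).image continuous_subtype_val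

lemma quasiCompact_of_comp {X Y Z : Scheme.{u}} (f : X ⟶ Y) (g : Y ⟶ Z) [QuasiCompact (f ≫ g)]
    (hX : ∀ x : X, ∃ U ∈ nhds x, NoetherianSpace U) : QuasiCompact f := by
  refine ⟨fun V hVo hV => ?_⟩
  choose W hW hgW using fun y : Y => Z.isBasis_affineOpens.exists_subset_of_mem_open
    (Set.mem_univ (g y)) isOpen_univ
  obtain ⟨t, -, ht⟩ := hV.elim_nhds_subcover (fun y => g ⁻¹' W y) fun y _ => by
    obtain ⟨W', hW', e⟩ := hW y
    refine IsOpen.mem_nhds (IsOpen.preimage g.continuous ?_) (hgW y).1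
    rw [← e]; exact W'.2
  refine isCompact_of_subset_compact hX
    (K := ⋃ y ∈ t, (f ≫ g) ⁻¹' W y) (t.finite_toSet.isCompact_biUnion fun y _ => ?_) ?_
  · obtain ⟨W', hW', e⟩ := hW y
    rw [← e]
    exact (f ≫ g).isCompact_preimage (IsAffineOpen.isCompact hW')
  · intro x hx
    obtain ⟨y, hy, hfy⟩ := Set.mem_iUnion₂.mp (ht hx)
    exact Set.mem_iUnion₂.mpr ⟨y, hy, hfy⟩

lemma quasiCompact_of_isEmbedding {X Y : Scheme.{u}} (f : X ⟶ Y) (hf : Topology.IsEmbedding f)
    (hY : ∀ y : Y, ∃ U ∈ nhds y, NoetherianSpace U) : QuasiCompact f := by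
  refine ⟨fun V _ hV => ?_⟩
  rw [hf.isCompact_iff]
  exact isCompact_of_subset_compact hY hV (Set.image_preimage_subset _ _)

end Groth.PropsBasic2
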