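import Mathlib.AlgebraicGeometry.SpreadingOut
import Mathlib.AlgebraicGeometry.Morphisms.FinitePresentation
import Mathlib.RingTheory.FinitePresentation

/-!
Spreading out morphisms from stalks without any germ-injectivity hypothesis on the source:
uniqueness for targets locally of finite type, existence for targets locally of finite presentation.
-/

universe u

open CategoryTheory AlgebraicGeometry TopologicalSpace

namespace Groth.PropsBasic2.Spread

variable {X Y S : Scheme.{u}} {R A : CommRingCat.{u}}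

/-- Two maps from an algebra of finite type into sections that agree on the base and at the germ
at `x` agree on a neighbourhood of `x`. -/
lemma exists_res_eq {U : X.Opens} {x : X} (hxU : x ∈ U) (ψ₁ ψ₂ : A ⟶ Γ(X, U)) (φRA : R ⟶ A)
    (hφRA : φRA.hom.FiniteType) (h0 : φRA ≫ ψ₁ = φRA ≫ ψ₂)
    (h1 : ψ₁ ≫ X.presheaf.germ U x hxU = ψ₂ ≫ X.presheaf.germ U x hxU) :
    ∃ (V : X.Opens) (_ : x ∈ V) (i : V ≤ U),
      ψ₁ ≫ X.presheaf.map (homOfLE i).op = ψ₂ ≫ X.presheaf.map (homOfLE i).op := by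
  let := φRA.hom.toAlgebra
  obtain ⟨s, hs⟩ := hφRA
  have hg : ∀ a : A, ∃ (W : X.Opens) (_ : x ∈ W) (i : W ≤ U),
      X.presheaf.map (homOfLE i).op (ψ₁ a) = X.presheaf.map (homOfLE i).op (ψ₂ a) := by
    intro a
    obtain ⟨W, hxW, iU, iV, h⟩ := X.presheaf.germ_eq x hxU hxU (ψ₁ a) (ψ₂ a)
      (congrArg (fun m ↦ m.hom a) h1)
    exact ⟨W, hxW, iU.le, h⟩
  choose W hxW iW hW using hg
  have H : x ∈ s.inf W ⊓ U := by
    rw [← SetLike.mem_coe, Opens.coe_inf, Opens.coe_finset_inf]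
    exact ⟨by simpa using fun a _ ↦ hxW a, hxU⟩
  refine ⟨s.inf W ⊓ U, H, inf_le_right, ?_⟩
  set r₁ := ψ₁ ≫ X.presheaf.map (homOfLE (inf_le_right (a := s.inf W) (b := U))).op with hr₁
  set r₂ := ψ₂ ≫ X.presheaf.map (homOfLE (inf_le_right (a := s.inf W) (b := U))).op with hr₂
  have hsub : Algebra.adjoin R (s : Set A) ≤
      { RingHom.eqLocus r₁.hom r₂.hom with
        algebraMap_mem' := fun r ↦ congr($(congrArg
          (· ≫ X.presheaf.map (homOfLE (inf_le_right (a := s.inf W) (b := U))).op) h0) r) } := by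
    rw [Algebra.adjoin_le_iff]
    intro a ha
    have hle : s.inf W ⊓ U ≤ W a := inf_le_left.trans (Finset.inf_le ha)
    change r₁ a = r₂ a
    simp only [hr₁, hr₂, ← homOfLE_comp hle (iW a), op_comp, X.presheaf.map_comp]
    exact congr(X.presheaf.map (homOfLE hle).op $(hW a))
  rw [hs] at hsub
  ext a
  exact hsub (Algebra.mem_top (x := a))

/-- Given a finitely presented `R`-algebra `A`, a map from `A` to the stalk at `x` which on `R`
comes from sections lifts to sections on an affine neighbourhood. -/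
lemma exists_lift {U : X.Opens} {x : X} (hxU : x ∈ U)
    (φ : A ⟶ X.presheaf.stalk x) (φRA : R ⟶ A) (φRX : R ⟶ Γ(X, U))
    (hφRA : φRA.hom.FinitePresentation)
    (e : φRA ≫ φ = φRX ≫ X.presheaf.germ U x hxU) :
    ∃ (V : X.Opens) (hxV : x ∈ V) (φ' : A ⟶ Γ(X, V)) (i : V ≤ U), IsAffineOpen V ∧
      φ = φ' ≫ X.presheaf.germ V x hxV ∧ φRX ≫ X.presheaf.map i.hom.op = φRA ≫ φ' := by
  let := φRA.hom.toAlgebra
  obtain ⟨n, π, hπ, hker⟩ := Algebra.FinitePresentation.out (self := hφRA)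
  choose W hxW f hf using fun i : Fin n ↦ X.presheaf.exists_germ_eq (φ (π (MvPolynomial.X i)))
  let W₀ : X.Opens := Finset.univ.inf W ⊓ U
  have hxW₀ : x ∈ W₀ := by
    rw [← SetLike.mem_coe, Opens.coe_inf, Opens.coe_finset_inf]
    exact ⟨by simpa using hxW, hxU⟩
  have hW₀ (i) : W₀ ≤ W i := inf_le_left.trans (Finset.inf_le (Finset.mem_univ i))
  let ev : MvPolynomial (Fin n) R →+* Γ(X, W₀) :=
    MvPolynomial.eval₂Hom (φRX ≫ X.presheaf.map (homOfLE (inf_le_right (b := U))).op).hom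
      (fun i ↦ X.presheaf.map (homOfLE (hW₀ i)).op (f i))
  have hev : (X.presheaf.germ W₀ x hxW₀).hom.comp ev = φ.hom.comp π.toRingHom := by
    refine MvPolynomial.ringHom_ext (fun r ↦ ?_) (fun i ↦ ?_)
    · simp only [RingHom.comp_apply, ev, MvPolynomial.eval₂Hom_C]
      have : (π : MvPolynomial (Fin n) R →+* A) (MvPolynomial.C r) = φRA r := π.commutes r
      erw [this]
      change X.presheaf.germ W₀ x hxW₀ (X.presheaf.map _ (φRX r)) = (φRA ≫ φ) r
      rw [e, TopCat.Presheaf.germ_res_apply]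
      rfl
    · simp only [RingHom.comp_apply, ev, MvPolynomial.eval₂Hom_X']
      exact (X.presheaf.germ_res_apply _ _ _ _).trans (hf i)
  obtain ⟨t, ht⟩ := hker
  have hk : ∀ k : t, ∃ (W' : X.Opens) (_ : x ∈ W') (i : W' ≤ W₀),
      X.presheaf.map (homOfLE i).op (ev k.1) = 0 := by
    intro k
    have hk' : k.1 ∈ RingHom.ker π.toRingHom := ht ▸ Ideal.subset_span k.2
    have : X.presheaf.germ W₀ x hxW₀ (ev k.1) = X.presheaf.germ W₀ x hxW₀ 0 := by
      rw [map_zero]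
      change ((X.presheaf.germ W₀ x hxW₀).hom.comp ev) k.1 = 0
      rw [hev, RingHom.comp_apply, RingHom.mem_ker.mp hk', map_zero]
    obtain ⟨W', hxW', iU, iV, h⟩ := X.presheaf.germ_eq x hxW₀ hxW₀ _ _ this
    rw [map_zero] at h
    exact ⟨W', hxW', iU.le, h⟩
  choose W' hxW' iW' hW' using hk
  have hx₁ : x ∈ t.attach.inf W' ⊓ W₀ := by
    rw [← SetLike.mem_coe, Opens.coe_inf, Opens.coe_finset_inf]
    exact ⟨by simpa using fun k hk ↦ hxW' ⟨k, hk⟩, hxW₀⟩
  obtain ⟨_, ⟨V : X.Opens, hV, rfl⟩, hxV, hVle⟩ :=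
    X.isBasis_affineOpens.exists_subset_of_mem_open hx₁ (t.attach.inf W' ⊓ W₀).2
  have iV₀ : V ≤ W₀ := hVle.trans inf_le_right
  let ev' : MvPolynomial (Fin n) R →+* Γ(X, V) :=
    (X.presheaf.map (homOfLE iV₀).op).hom.comp ev
  have hkill : RingHom.ker π.toRingHom ≤ RingHom.ker ev' := by
    rw [← ht, Ideal.span_le]
    intro k hk
    have hle : V ≤ W' ⟨k, hk⟩ :=
      (show V ≤ t.attach.inf W' ⊓ W₀ from hVle).trans (inf_le_left.trans (Finset.inf_le (Finset.mem_attach _ _)))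
    change X.presheaf.map (homOfLE iV₀).op (ev k) = 0
    rw [← homOfLE_comp hle (iW' ⟨k, hk⟩), op_comp, X.presheaf.map_comp, CommRingCat.comp_apply]
    erw [hW' ⟨k, hk⟩]
    exact map_zero _
  let φ' : A →+* Γ(X, V) := RingHom.liftOfSurjective π.toRingHom hπ ⟨ev', hkill⟩
  have hφ' : φ'.comp π.toRingHom = ev' := RingHom.liftOfRightInverse_comp _ _ _ _
  refine ⟨V, hxV, CommRingCat.ofHom φ', iV₀.trans inf_le_right, hV, ?_, ?_⟩
  · ext a
    obtain ⟨p, rfl⟩ := hπ a
    change φ (π p) = X.presheaf.germ V x hxV ((φ'.comp π.toRingHom) p)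
    rw [hφ']
    change φ (π p) = X.presheaf.germ V x hxV (X.presheaf.map _ (ev p))
    rw [TopCat.Presheaf.germ_res_apply]
    exact congr($hev.symm p)
  · ext r
    change X.presheaf.map _ (φRX r) = φ' (φRA r)
    have : (π : MvPolynomial (Fin n) R →+* A) (MvPolynomial.C r) = φRA r := π.commutes r
    rw [← this]
    change _ = (φ'.comp π.toRingHom) (MvPolynomial.C r)
    rw [hφ']
    simp only [ev', ev, RingHom.comp_apply, MvPolynomial.eval₂Hom_C]
    change _ = X.presheaf.map _ (X.presheaf.map _ (φRX r))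
    change _ = (X.presheaf.map _ ≫ X.presheaf.map _) (φRX r)
    rw [← X.presheaf.map_comp]
    rfl

set_option backward.isDefEq.respectTransparency.types false in
/-- Uniqueness of spreading out, target locally of finite type, no hypothesis on the source. -/
lemma unique (sY : Y ⟶ S) [LocallyOfFiniteType sY] (f g : X ⟶ Y) (h : f ≫ sY = g ≫ sY)
    {x : X} (e : f x = g x)
    (H : f.stalkMap x =
      Y.presheaf.stalkSpecializes (Inseparable.of_eq e.symm).specializes ≫ g.stalkMap x) :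
    ∃ (U : X.Opens), x ∈ U ∧ U.ι ≫ f = U.ι ≫ g := by
  obtain ⟨_, ⟨T : S.Opens, hT, rfl⟩, hxT, -⟩ :=
    S.isBasis_affineOpens.exists_subset_of_mem_open (Set.mem_univ (sY (f x))) isOpen_univ
  obtain ⟨_, ⟨V : Y.Opens, hV, rfl⟩, hxV, hVT⟩ :=
    Y.isBasis_affineOpens.exists_subset_of_mem_open (show f x ∈ sY ⁻¹ᵁ T from hxT) (sY ⁻¹ᵁ T).2
  have hxV' : g x ∈ V := e ▸ hxV
  let U₀ := f ⁻¹ᵁ V ⊓ g ⁻¹ᵁ V
  obtain ⟨U, hxU, iU, hU⟩ := exists_res_eq (U := U₀) (x := x) ⟨hxV, hxV'⟩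
    (f.appLE V U₀ inf_le_left) (g.appLE V U₀ inf_le_right) (sY.appLE T V hVT)
    (sY.finiteType_appLE hT hV _)
    (by
      rw [Scheme.Hom.appLE_comp_appLE, Scheme.Hom.appLE_comp_appLE]
      congr 1)
    (by
      simp only [Scheme.Hom.appLE, Category.assoc, X.presheaf.germ_res',
        ← Scheme.Hom.germ_stalkMap, H]
      simp only [TopCat.Presheaf.germ_stalkSpecializes_assoc, Scheme.Hom.germ_stalkMap])
  simp only [Scheme.Hom.appLE_map] at hU
  refine ⟨U, hxU, ?_⟩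
  have hUV : U ≤ f ⁻¹ᵁ V ⊓ g ⁻¹ᵁ V := iU
  rw [← Scheme.Hom.resLE_comp_ι _ (hUV.trans inf_le_left),
    ← Scheme.Hom.resLE_comp_ι _ (hUV.trans inf_le_right)]
  congr 1
  have : IsAffine V := hV
  suffices ∀ (U₁ V₁) (eU : U = U₁) (eV : V = V₁),
      f.appLE V₁ U₁ (eU ▸ eV ▸ hUV.trans inf_le_left) =
        g.appLE V₁ U₁ (eU ▸ eV ▸ hUV.trans inf_le_right) by
    rw [← cancel_mono V.toScheme.isoSpec.hom]
    simp only [Scheme.isoSpec, asIso_hom, Scheme.toSpecΓ_naturality,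
      Scheme.Hom.app_eq_appLE, Scheme.Hom.resLE_appLE]
    congr 2
    apply this <;> simp
  rintro U V rfl rfl
  exact hU

/-- Variant of `unique` whose condition is an equality of morphisms from the local scheme. -/
lemma unique' (sY : Y ⟶ S) [LocallyOfFiniteType sY] (f g : X ⟶ Y) (h : f ≫ sY = g ≫ sY) {x : X}
    (e : X.fromSpecStalk x ≫ f = X.fromSpecStalk x ≫ g) :
    ∃ (U : X.Opens), x ∈ U ∧ U.ι ≫ f = U.ι ≫ g := by
  fapply unique sY f g h
  · have := congr($e (IsLocalRing.closedPoint _))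
    change f (X.fromSpecStalk x _) = g (X.fromSpecStalk x _) at this
    rwa [Scheme.fromSpecStalk_closedPoint] at this
  · apply Spec.map_injective
    rw [← cancel_mono (Y.fromSpecStalk _)]
    simpa [Scheme.SpecMap_stalkSpecializes_fromSpecStalk]

set_option backward.isDefEq.respectTransparency.types false in
/-- Existence of spreading out, target locally of finite presentation. -/
lemma exist (sX : X ⟶ S) (sY : Y ⟶ S) [LocallyOfFinitePresentation sY] {x : X} {y : Y}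
    (e : sX x = sY y) (φ : Y.presheaf.stalk y ⟶ X.presheaf.stalk x)
    (h : sY.stalkMap y ≫ φ =
      S.presheaf.stalkSpecializes (Inseparable.of_eq e).specializes ≫ sX.stalkMap x) :
    ∃ (U : X.Opens) (hxU : x ∈ U) (f : U.toScheme ⟶ Y),
      Spec.map φ ≫ Y.fromSpecStalk y = U.fromSpecStalkOfMem x hxU ≫ f ∧
      f ≫ sY = U.ι ≫ sX := by
  obtain ⟨_, ⟨U, hU, rfl⟩, hxU, -⟩ :=
    S.isBasis_affineOpens.exists_subset_of_mem_open (Set.mem_univ (sX x)) isOpen_univ
  have hyU : sY y ∈ U := e ▸ hxU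
  obtain ⟨_, ⟨V : Y.Opens, hV, rfl⟩, hyV, iVU⟩ :=
    Y.isBasis_affineOpens.exists_subset_of_mem_open hyU (sY ⁻¹ᵁ U).2
  have : sY.appLE U V iVU ≫ Y.presheaf.germ V y hyV ≫ φ =
      sX.app U ≫ X.presheaf.germ (sX ⁻¹ᵁ U) x hxU := by
    rw [Scheme.Hom.appLE, Category.assoc, Y.presheaf.germ_res_assoc,
      ← Scheme.Hom.germ_stalkMap_assoc, h]
    simp
  obtain ⟨W, hxW, φ', i, hW, h₁, h₂⟩ :=
    exists_lift (R := Γ(S, U)) (A := Γ(Y, V)) (U := sX ⁻¹ᵁ U) (x := x) hxU
    (Y.presheaf.germ _ y hyV ≫ φ) (sY.appLE U V iVU) (sX.app U)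
    (sY.finitePresentation_appLE hU hV iVU) this
  refine ⟨W, hxW, W.toSpecΓ ≫ Spec.map φ' ≫ hV.fromSpec, ?_, ?_⟩
  · rw [W.fromSpecStalkOfMem_toSpecΓ_assoc x hxW, ← Spec.map_comp_assoc, ← h₁,
      Spec.map_comp, Category.assoc, ← IsAffineOpen.fromSpecStalk,
      IsAffineOpen.fromSpecStalk_eq_fromSpecStalk]
  · simp only [Category.assoc]
    rw [← IsAffineOpen.SpecMap_appLE_fromSpec sY hU hV iVU, ← Spec.map_comp_assoc, ← h₂,
      ← Scheme.Hom.appLE, ← hW.isoSpec_hom, IsAffineOpen.SpecMap_appLE_fromSpec sX hU hW i,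
      ← Iso.eq_inv_comp, IsAffineOpen.isoSpec_inv_ι_assoc]

set_option backward.isDefEq.respectTransparency.types false in
/-- Existence of spreading out, for a morphism from the local scheme. -/
lemma exist' (sX : X ⟶ S) (sY : Y ⟶ S) [LocallyOfFinitePresentation sY] {x : X}
    (φ : Spec (X.presheaf.stalk x) ⟶ Y) (h : φ ≫ sY = X.fromSpecStalk x ≫ sX) :
    ∃ (U : X.Opens) (hxU : x ∈ U) (f : U.toScheme ⟶ Y),
      φ = U.fromSpecStalkOfMem x hxU ≫ f ∧ f ≫ sY = U.ι ≫ sX := by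
  have := exist sX sY ?_ (Scheme.stalkClosedPointTo φ) ?_
  · simpa only [Scheme.Spec_stalkClosedPointTo_fromSpecStalk] using this
  · rw [← Scheme.Hom.comp_apply, h, Scheme.Hom.comp_apply, Scheme.fromSpecStalk_closedPoint]
  · apply Spec.map_injective
    rw [← cancel_mono (S.fromSpecStalk _)]
    simpa only [Spec.map_comp, Category.assoc, Scheme.SpecMap_stalkMap_fromSpecStalk,
      Scheme.Spec_stalkClosedPointTo_fromSpecStalk_assoc,
      Scheme.SpecMap_stalkSpecializes_fromSpecStalk]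

end Groth.PropsBasic2.Spread
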