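import Mathlib.AlgebraicGeometry.Limits
import Mathlib.AlgebraicGeometry.Morphisms.FlatMono
import Mathlib.AlgebraicGeometry.Morphisms.FlatDescent
import Mathlib.AlgebraicGeometry.ResidueField
import Mathlib.AlgebraicGeometry.PullbackCarrier

/-! Monomorphisms into disjoint unions of spectra of fields. -/

universe u

open CategoryTheory Limits AlgebraicGeometry
open scoped Function

namespace Groth.PropsBasic2.MonoFields

/-- A monomorphism from a nonempty scheme to the spectrum of a field is an isomorphism. -/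
lemma isIso_of_mono {X : Scheme.{u}} [Nonempty X] {K : Type u} [Field K]
    (f : X ⟶ Spec (CommRingCat.of K)) [Mono f] : IsIso f := by
  obtain ⟨x⟩ := ‹Nonempty X›
  let i := X.fromSpecResidueField x
  have hs : Surjective (i ≫ f) := ⟨fun _ => ⟨IsLocalRing.closedPoint _, Subsingleton.elim _ _⟩⟩
  have hflat : Flat (i ≫ f) := by
    rw [← Spec.map_preimage (i ≫ f), Flat.SpecMap_iff]
    let φ : K →+* X.residueField x := (Spec.preimage (i ≫ f)).hom
    show RingHom.Flat φ
    let : Algebra K (X.residueField x) := φ.toAlgebra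
    exact RingHom.flat_algebraMap_iff.2 inferInstance
  have : Mono (i ≫ f) := inferInstance
  have : IsIso (i ≫ f) := Flat.isIso_of_surjective_of_mono _
  have : IsSplitEpi f := ⟨⟨⟨CategoryTheory.inv (i ≫ f) ≫ i, by simp⟩⟩⟩
  exact isIso_of_mono_of_isSplitEpi f

/-- A monomorphism into a scheme which is the disjoint union of spectra of fields is itself the
inclusion of a partial disjoint union. -/
lemma exists_iso {ι : Type u} (k : ι → Type u) [∀ i, Field (k i)] {X Y : Scheme.{u}}
    (α : ∀ i, Spec (CommRingCat.of (k i)) ⟶ X) [∀ i, IsOpenImmersion (α i)]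
    (hα : Pairwise (Disjoint on (Set.range <| α ·))) (hcov : ∀ x : X, ∃ i, x ∈ Set.range (α i))
    (f : Y ⟶ X) [Mono f] :
    ∃ (J : Set ι) (e : Y ≅ ∐ fun j : J => Spec (CommRingCat.of (k j.1))),
      e.hom ≫ Sigma.desc (fun j : J => α j.1) = f := by
  classical
  let J : Set ι := {i | Nonempty ↥(pullback f (α i))}
  let m : (∐ fun j : J => Spec (CommRingCat.of (k j.1))) ⟶ X := Sigma.desc (fun j : J => α j.1)
  have : IsOpenImmersion m := isOpenImmersion_sigmaDesc _ _
    (fun a b hab => hα fun h => hab (Subtype.ext h))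
  have hs (j : J) : IsIso (pullback.snd f (α j.1)) := by
    have : Nonempty ↥(pullback f (α j.1)) := j.2
    exact isIso_of_mono _
  let g : (∐ fun j : J => Spec (CommRingCat.of (k j.1))) ⟶ Y :=
    Sigma.desc fun j => (@CategoryTheory.inv _ _ _ _ (pullback.snd f (α j.1)) (hs j)) ≫ pullback.fst f (α j.1)
  have hg : g ≫ f = m := by
    refine Sigma.hom_ext _ _ fun j => ?_
    simp [g, m, pullback.condition]
  have hr : Set.range f ⊆ Set.range m := by
    rintro _ ⟨y, rfl⟩
    obtain ⟨i, p, hp⟩ := hcov (f y)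
    obtain ⟨z, -, -⟩ := Scheme.Pullback.exists_preimage_pullback (f := f) (g := α i) y p hp.symm
    refine ⟨Sigma.ι (fun j : J => Spec (CommRingCat.of (k j.1))) ⟨i, ⟨z⟩⟩ p, ?_⟩
    rw [← Scheme.Hom.comp_apply, Sigma.ι_desc, hp]
  let l := IsOpenImmersion.lift m f hr
  have hl : l ≫ m = f := IsOpenImmersion.lift_fac _ _ _
  refine ⟨J, ⟨l, g, ?_, ?_⟩, hl⟩
  · rw [← cancel_mono f, Category.assoc, hg, hl, Category.id_comp]
  · rw [← cancel_mono m, Category.assoc, hl, hg, Category.id_comp]

end Groth.PropsBasic2.MonoFields
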