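import Mathlib.AlgebraicGeometry.Morphisms.Separated
import Mathlib.AlgebraicGeometry.Morphisms.Proper
import Mathlib.AlgebraicGeometry.Morphisms.Immersion
import Mathlib.AlgebraicGeometry.PullbackCarrier

/-! Separatedness criteria. -/

universe u

open AlgebraicGeometry CategoryTheory Limits

namespace Groth.PropsBasic2

variable {X Y S : Scheme.{u}}

lemma isSeparated_of_isClosed_range (f : X ⟶ S)
    (h : IsClosed (Set.range (pullback.diagonal f))) : IsSeparated f :=
  ⟨IsClosedImmersion.of_isPreimmersion _ h⟩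

lemma comp_diagonal {W : Scheme.{u}} (i : W ⟶ X) (f : X ⟶ S)
    (h₁ h₂ : (i ≫ f) ≫ 𝟙 S = i ≫ f) :
    i ≫ pullback.diagonal f =
      pullback.diagonal (i ≫ f) ≫ pullback.map (i ≫ f) (i ≫ f) f f i i (𝟙 S) h₁ h₂ := by
  have e1 : pullback.map (i ≫ f) (i ≫ f) f f i i (𝟙 S) h₁ h₂ ≫ pullback.fst f f =
      pullback.fst (i ≫ f) (i ≫ f) ≫ i := pullback.lift_fst _ _ _
  have e2 : pullback.map (i ≫ f) (i ≫ f) f f i i (𝟙 S) h₁ h₂ ≫ pullback.snd f f =
      pullback.snd (i ≫ f) (i ≫ f) ≫ i := pullback.lift_snd _ _ _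
  apply pullback.hom_ext
  · rw [Category.assoc, Category.assoc, pullback.diagonal_fst, Category.comp_id]
    erw [e1]
    erw [pullback.diagonal_fst_assoc]
  · rw [Category.assoc, Category.assoc, pullback.diagonal_snd, Category.comp_id]
    erw [e2]
    erw [pullback.diagonal_snd_assoc]

/-- Separatedness descends along finitely many proper morphisms jointly surjective. -/
lemma isSeparated_of_finite_cover {ι : Type*} [Finite ι] (q : Y ⟶ S) (Z : ι → Scheme.{u})
    (π : ∀ k, Z k ⟶ Y) [∀ k, IsProper (π k)] [∀ k, IsSeparated (π k ≫ q)]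
    (hcov : ∀ y : Y, ∃ k, y ∈ Set.range (π k)) : IsSeparated q := by
  apply isSeparated_of_isClosed_range
  let m : ∀ k, pullback (π k ≫ q) (π k ≫ q) ⟶ pullback q q := fun k =>
    pullback.map _ _ q q (π k) (π k) (𝟙 _) (by simp) (by simp)
  have hm : ∀ k, IsProper (m k) := fun k =>
    MorphismProperty.pullbackMap (P := @IsProper) (i₁ := π k) (i₂ := π k) (f' := q) (g' := q)
      inferInstance inferInstance rfl rfl
  have hd : ∀ k, π k ≫ pullback.diagonal q = pullback.diagonal (π k ≫ q) ≫ m k := fun k => comp_diagonal (π k) q _ _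
  have heq : Set.range (pullback.diagonal q) = ⋃ k, m k '' Set.range (pullback.diagonal (π k ≫ q)) := by
    ext z
    constructor
    · rintro ⟨y, rfl⟩
      obtain ⟨k, w, rfl⟩ := hcov y
      exact Set.mem_iUnion.mpr ⟨k, _, ⟨w, rfl⟩, (congrArg (fun r => r.base w) (hd k)).symm⟩
    · intro hz
      obtain ⟨k, _, ⟨w, rfl⟩, rfl⟩ := Set.mem_iUnion.mp hz
      exact ⟨π k w, congrArg (fun r => r.base w) (hd k)⟩
  rw [heq]
  refine isClosed_iUnion_of_finite fun k => ?_
  have := hm k
  exact (m k).isClosedMap _ (pullback.diagonal (π k ≫ q)).isClosedEmbedding.isClosed_range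

lemma isSeparated_of_pairs_in_affine [IsAffine S] (f : X ⟶ S)
    (h : ∀ x y : X, f x = f y → ∃ U : X.Opens, IsAffineOpen U ∧ x ∈ U ∧ y ∈ U) :
    IsSeparated f := by
  apply isSeparated_of_isClosed_range
  refine isClosed_of_closure_subset fun z hz => ?_
  obtain ⟨U, hU, hxU, hyU⟩ := h (pullback.fst f f z) (pullback.snd f f z)
    (by rw [← Scheme.Hom.comp_apply, ← Scheme.Hom.comp_apply, pullback.condition])
  have : IsAffine U := hU
  let m : pullback (U.ι ≫ f) (U.ι ≫ f) ⟶ pullback f f :=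
    pullback.map _ _ f f U.ι U.ι (𝟙 _) (by simp) (by simp)
  obtain ⟨z', hz'⟩ : z ∈ Set.range m := by
    rw [Scheme.Pullback.range_map]
    exact ⟨by simpa using hxU, by simpa using hyU⟩
  have hd : U.ι ≫ pullback.diagonal f = pullback.diagonal (U.ι ≫ f) ≫ m := comp_diagonal U.ι f _ _
  have hsub : m ⁻¹' Set.range (pullback.diagonal f) ⊆ Set.range (pullback.diagonal (U.ι ≫ f)) := by
    rintro w ⟨x, hx⟩
    have hxU' : x ∈ U := by
      have h2 : pullback.fst f f (m w) = x := by
        rw [← hx, ← Scheme.Hom.comp_apply, pullback.diagonal_fst]; rfl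
      have h3 : pullback.fst f f (m w) = U.ι (pullback.fst (U.ι ≫ f) (U.ι ≫ f) w) := by
        have : m ≫ pullback.fst f f = pullback.fst (U.ι ≫ f) (U.ι ≫ f) ≫ U.ι := pullback.lift_fst _ _ _
        exact congrArg (fun r => r.base w) this
      rw [← h2, h3]
      exact Subtype.prop _
    refine ⟨⟨x, hxU'⟩, m.isOpenEmbedding.injective ?_⟩
    rw [← Scheme.Hom.comp_apply, ← hd, Scheme.Hom.comp_apply, ← hx]
    rfl
  have hc : z' ∈ Set.range (pullback.diagonal (U.ι ≫ f)) := by
    refine (pullback.diagonal (U.ι ≫ f)).isClosedEmbedding.isClosed_range.closure_subset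
      (closure_mono hsub ?_)
    rw [← m.isOpenEmbedding.isOpenMap.preimage_closure_eq_closure_preimage m.continuous]
    exact show m z' ∈ closure _ from hz' ▸ hz
  obtain ⟨u, hu⟩ := hc
  exact ⟨U.ι u, by rw [← hz', ← hu, ← Scheme.Hom.comp_apply, hd, Scheme.Hom.comp_apply]⟩

end Groth.PropsBasic2
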